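import Groth.Agent.EtModW.K337.SiteAb2
import Groth.Agent.S0717
import Groth.Agent.S0726
import Groth.Agent.S0731
import Groth.Agent.S0722
import Groth.Agent.S0742
import Groth.Agent.Proet.EpsBasic

/-!
# Sheaves of modules on the small pro-étale site: inverse and direct images

Module versions of S0717, S0722, S0726, S0731, S0740, S0741, S0742, S0743.

* `epsAdjM Λ X : epsPullMod Λ X ⊣ epsPushM Λ X`, unit an isomorphism, `epsPullMod` exact, full, faithful;
* `pullM Λ f ⊣ pushM Λ f`, `extZeroM Λ j ⊣ restrM Λ j`;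
* `pullEps`, `restrEps`, `extZeroEps`: compatibility with `eps⁻¹`.
-/

set_option autoImplicit false
universe u v w v' w'

open CategoryTheory CategoryTheory.Limits AlgebraicGeometry Opposite

namespace K337.ProMod

open K337.SiteAb K337.SiteAb2

variable (Λ : Type (u + 1)) [CommRing Λ]

/-- The underlying abelian sheaf of a sheaf of modules on the small pro-étale site. -/
noncomputable abbrev abP (X : Scheme.{u}) : EtModW.ModP Λ X ⥤ ProEtS.AbP X :=
  ab Λ (Scheme.ProEt.topology X)

section eps

variable (X : Scheme.{u}) [ProEtS.EpsCont X]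

/-- `ε_*` on sheaves of modules. -/
noncomputable abbrev epsPushM : EtModW.ModP Λ X ⥤ EtModW.Mod Λ X :=
  (ProEtS.eps X).sheafPushforwardContinuous (ModuleCat.{u + 1} Λ) X.smallEtaleTopology
    (Scheme.ProEt.topology X)

/-- The adjunction `ε⁻¹ ⊣ ε_*` on sheaves of modules. -/
noncomputable abbrev epsAdjM : EtModW.epsPullMod Λ X ⊣ epsPushM Λ X :=
  (ProEtS.eps X).sheafAdjunctionContinuous (ModuleCat.{u + 1} Λ) X.smallEtaleTopology
    (Scheme.ProEt.topology X)

instance isIso_unit_eps_app (F : EtModW.Mod Λ X) : IsIso ((epsAdjM Λ X).unit.app F) := by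
  rw [isIso_unit_iff]
  exact Groth.Agent.S0717.result X _

instance isIso_unit_eps : IsIso (epsAdjM Λ X).unit := NatIso.isIso_of_isIso_app _

/-- `ε⁻¹` is fully faithful on sheaves of modules. -/
noncomputable def epsFF : (EtModW.epsPullMod Λ X).FullyFaithful :=
  (epsAdjM Λ X).fullyFaithfulLOfIsIsoUnit

instance : (EtModW.epsPullMod Λ X).Full := (epsFF Λ X).full
instance : (EtModW.epsPullMod Λ X).Faithful := (epsFF Λ X).faithful

instance preservesFiniteLimits_eps : PreservesFiniteLimits (EtModW.epsPullMod Λ X) := by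
  have := Groth.Agent.Proet.EpsBasic.preservesFiniteLimits_epsPull X
  exact preservesFiniteLimits_pull Λ X.smallEtaleTopology (ProEtS.eps X) (Scheme.ProEt.topology X)

instance preservesColimits_eps : PreservesColimitsOfSize.{v', w'} (EtModW.epsPullMod Λ X) :=
  (epsAdjM Λ X).leftAdjoint_preservesColimits

instance preservesFiniteColimits_eps : PreservesFiniteColimits (EtModW.epsPullMod Λ X) :=
  inferInstance

instance : (EtModW.epsPullMod Λ X).Additive := Functor.additive_of_preserves_binary_products _

end eps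

section pull

variable {X Y : Scheme.{u}} (f : X ⟶ Y) [ProEtS.PCont f]

/-- `f_*` on sheaves of modules (pro-étale). -/
noncomputable abbrev pushM : EtModW.ModP Λ X ⥤ EtModW.ModP Λ Y :=
  (ProEtS.bcP f).sheafPushforwardContinuous (ModuleCat.{u + 1} Λ) (Scheme.ProEt.topology Y)
    (Scheme.ProEt.topology X)

/-- `f⁻¹` on sheaves of modules (pro-étale). -/
noncomputable abbrev pullM : EtModW.ModP Λ Y ⥤ EtModW.ModP Λ X :=
  (ProEtS.bcP f).sheafPullback (ModuleCat.{u + 1} Λ) (Scheme.ProEt.topology Y)
    (Scheme.ProEt.topology X)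

/-- The adjunction `f⁻¹ ⊣ f_*` on sheaves of modules (pro-étale). -/
noncomputable abbrev pullPushAdjM : pullM Λ f ⊣ pushM Λ f :=
  (ProEtS.bcP f).sheafAdjunctionContinuous (ModuleCat.{u + 1} Λ) (Scheme.ProEt.topology Y)
    (Scheme.ProEt.topology X)

instance preservesFiniteLimits_pullM : PreservesFiniteLimits (pullM Λ f) := by
  have := Groth.Agent.Proet.EpsBasic.preservesFiniteLimits_pullP f
  exact preservesFiniteLimits_pull Λ (Scheme.ProEt.topology Y) (ProEtS.bcP f)
    (Scheme.ProEt.topology X)

instance preservesColimits_pullM : PreservesColimitsOfSize.{v', w'} (pullM Λ f) :=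
  (pullPushAdjM Λ f).leftAdjoint_preservesColimits

instance preservesFiniteColimits_pullM : PreservesFiniteColimits (pullM Λ f) := inferInstance

instance : (pullM Λ f).Additive := Functor.additive_of_preserves_binary_products _

instance preservesLimits_pushM : PreservesLimitsOfSize.{v', w'} (pushM Λ f) :=
  (pullPushAdjM Λ f).rightAdjoint_preservesLimits

instance preservesFiniteLimits_pushM : PreservesFiniteLimits (pushM Λ f) := inferInstance

instance : (pushM Λ f).Additive := Functor.additive_of_preserves_binary_products _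

/-- The counit for a closed immersion is an isomorphism. -/
theorem isIso_counit_closed [IsClosedImmersion f] (F : EtModW.ModP Λ X) :
    IsIso ((pullPushAdjM Λ f).counit.app F) := by
  rw [isIso_counit_iff]
  exact Groth.Agent.S0741.result f _

/-- `f⁻¹` commutes with small limits for a closed immersion. -/
theorem preservesLimitsOfShape_pullM_closed [IsClosedImmersion f] (J : Type u) [SmallCategory J] :
    PreservesLimitsOfShape J (pullM Λ f) := by
  have := Groth.Agent.S0740.result f J
  have h1 : HasLimitsOfSize.{u, u} (ModuleCat.{u + 1} Λ) :=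
    hasLimitsOfSizeShrink.{u, u, u + 1, u + 1} _
  have h2 : PreservesLimitsOfSize.{u, u} (Groth.Agent.Etrest.ModAb.fg Λ) :=
    preservesLimitsOfSize_shrink.{u, u + 1, u, u + 1} _
  exact preservesLimitsOfShape_pull Λ (Scheme.ProEt.topology Y) (ProEtS.bcP f)
    (Scheme.ProEt.topology X) J

/-- `f_*` is exact for a closed immersion with retrocompact complement. -/
theorem preservesFiniteColimits_pushM_closed [IsClosedImmersion f]
    (hr : IsRetrocompact (Set.range f.base)ᶜ) : PreservesFiniteColimits (pushM Λ f) := by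
  have := (Groth.Agent.S0722.result f hr).2
  exact preservesFiniteColimits_push Λ (Scheme.ProEt.topology Y) (ProEtS.bcP f)
    (Scheme.ProEt.topology X)

end pull

section ext

variable {U X : Scheme.{u}} (j : U ⟶ X) [WeaklyEtale j] [ProEtS.JPCont j]

/-- Extension by zero on sheaves of modules (pro-étale). -/
noncomputable abbrev extZeroM : EtModW.ModP Λ U ⥤ EtModW.ModP Λ X :=
  (ProEtS.compP j).sheafPullback (ModuleCat.{u + 1} Λ) (Scheme.ProEt.topology U)
    (Scheme.ProEt.topology X)

/-- Restriction of sheaves of modules (pro-étale). -/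
noncomputable abbrev restrM : EtModW.ModP Λ X ⥤ EtModW.ModP Λ U :=
  (ProEtS.compP j).sheafPushforwardContinuous (ModuleCat.{u + 1} Λ) (Scheme.ProEt.topology U)
    (Scheme.ProEt.topology X)

/-- The adjunction `j_! ⊣ j⁻¹`. -/
noncomputable abbrev extZeroAdjM : extZeroM Λ j ⊣ restrM Λ j :=
  (ProEtS.compP j).sheafAdjunctionContinuous (ModuleCat.{u + 1} Λ) (Scheme.ProEt.topology U)
    (Scheme.ProEt.topology X)

/-- `j_!` commutes with small limits for a quasi-compact open immersion. -/
theorem preservesLimitsOfShape_extZeroM [IsOpenImmersion j] [QuasiCompact j] (J : Type u)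
    [SmallCategory J] : PreservesLimitsOfShape J (extZeroM Λ j) := by
  have := Groth.Agent.S0731.result j J
  have h1 : HasLimitsOfSize.{u, u} (ModuleCat.{u + 1} Λ) :=
    hasLimitsOfSizeShrink.{u, u, u + 1, u + 1} _
  have h2 : PreservesLimitsOfSize.{u, u} (Groth.Agent.Etrest.ModAb.fg Λ) :=
    preservesLimitsOfSize_shrink.{u, u + 1, u, u + 1} _
  exact preservesLimitsOfShape_pull Λ (Scheme.ProEt.topology U) (ProEtS.compP j)
    (Scheme.ProEt.topology X) J

/-- The unit `F ⟶ j⁻¹ j_! F` is an isomorphism for an open immersion. -/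
theorem isIso_unit_extZeroM [IsOpenImmersion j] (F : EtModW.ModP Λ U) :
    IsIso ((extZeroAdjM Λ j).unit.app F) := by
  have := Groth.Agent.Proet.Cont.pCont j
  rw [isIso_unit_iff]
  exact (Groth.Agent.S0742.result j _ ((abP Λ U).obj F)).1

/-- `j⁻¹ ⊣ j_*` with `j⁻¹` the restriction. -/
noncomputable def restrPushAdjM [ProEtS.PCont j] : restrM Λ j ⊣ pushM Λ j :=
  (Groth.Agent.Proet.RestrPush.compBcAdj j).sheafPushforwardContinuous _ _

/-- `pullM j ≅ restrM j` for weakly etale `j`. -/
noncomputable def pullRestrIso [ProEtS.PCont j] : pullM Λ j ≅ restrM Λ j :=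
  (pullPushAdjM Λ j).leftAdjointUniq (restrPushAdjM Λ j)

instance preservesFiniteColimits_restrM : PreservesFiniteColimits (restrM Λ j) := by
  have := Groth.Agent.Proet.Cont.pCont j
  have : PreservesColimitsOfSize.{0, 0} (restrM Λ j) :=
    (restrPushAdjM Λ j).leftAdjoint_preservesColimits
  infer_instance

instance preservesLimits_restrM : PreservesLimitsOfSize.{v', w'} (restrM Λ j) :=
  (extZeroAdjM Λ j).rightAdjoint_preservesLimits

instance preservesFiniteLimits_restrM : PreservesFiniteLimits (restrM Λ j) := inferInstance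

instance : (restrM Λ j).Additive := Functor.additive_of_preserves_binary_products _

instance preservesColimits_extZeroM : PreservesColimitsOfSize.{v', w'} (extZeroM Λ j) :=
  (extZeroAdjM Λ j).leftAdjoint_preservesColimits

end ext

/-- The fundamental exact sequence `0 ⟶ j_! j⁻¹ F ⟶ F ⟶ i_* i⁻¹ F ⟶ 0` for sheaves of modules. -/
theorem shortExact_open_closed {X Z U : Scheme.{u}} (i : Z ⟶ X) [IsClosedImmersion i]
    (j : U ⟶ X) [IsOpenImmersion j] [WeaklyEtale j] [QuasiCompact j]
    (hc : Set.range j.base = (Set.range i.base)ᶜ) [ProEtS.JPCont j] [ProEtS.PCont i]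
    (F : EtModW.ModP Λ X) :
    ∃ h : (extZeroAdjM Λ j).counit.app F ≫ (pullPushAdjM Λ i).unit.app F = 0,
      (ShortComplex.mk _ _ h).ShortExact := by
  obtain ⟨h0, hS⟩ := Groth.Agent.S0726.result i j hc ((abP Λ X).obj F)
  have e1 := counit_pullIso Λ (Scheme.ProEt.topology U) (ProEtS.compP j)
    (Scheme.ProEt.topology X) F
  have e2 := unit_pullIso Λ (Scheme.ProEt.topology X) (ProEtS.bcP i)
    (Scheme.ProEt.topology Z) F
  let a := (pullIso Λ (Scheme.ProEt.topology U) (ProEtS.compP j) (Scheme.ProEt.topology X)).app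
      ((restrM Λ j).obj F) ≪≫ (ProEtS.extZeroP j).mapIso
        ((pushIso Λ (Scheme.ProEt.topology U) (ProEtS.compP j) (Scheme.ProEt.topology X)).app F)
  let b := (pushIso Λ (Scheme.ProEt.topology X) (ProEtS.bcP i) (Scheme.ProEt.topology Z)).app
      ((pullM Λ i).obj F) ≪≫ (ProEtS.pushP i).mapIso
        ((pullIso Λ (Scheme.ProEt.topology X) (ProEtS.bcP i) (Scheme.ProEt.topology Z)).app F)
  have e1' : (abP Λ X).map ((extZeroAdjM Λ j).counit.app F) =
      a.hom ≫ (ProEtS.extZeroPAdj j).counit.app ((abP Λ X).obj F) := by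
    rw [e1]
    simp [a]
  have e2' : (ProEtS.pullPushAdjP i).unit.app ((abP Λ X).obj F) =
      (abP Λ X).map ((pullPushAdjM Λ i).unit.app F) ≫ b.hom := by
    rw [e2]
    simp [b]
  have h : (extZeroAdjM Λ j).counit.app F ≫ (pullPushAdjM Λ i).unit.app F = 0 := by
    apply (abP Λ X).map_injective
    rw [Functor.map_comp, Functor.map_zero, e1', ← cancel_mono b.hom, Category.assoc,
      Category.assoc, ← e2', h0, comp_zero, zero_comp]
  refine ⟨h, ?_⟩
  rw [shortExact_iff]
  let T := ShortComplex.mk _ _ h0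
  have hT : T.ShortExact := hS
  let S' := (ShortComplex.mk _ _ h).map (abP Λ X)
  have hf : a.hom ≫ T.f = S'.f ≫ 𝟙 _ := by
    rw [Category.comp_id]
    exact e1'.symm
  have hg : 𝟙 _ ≫ T.g = S'.g ≫ b.hom := by
    rw [Category.id_comp]
    exact e2'
  exact (ShortComplex.shortExact_iff_of_iso
    (ShortComplex.isoMk (S₁ := S') (S₂ := T) a (Iso.refl _) b hf hg)).2 hT

end K337.ProMod
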