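import Groth.Agent.EtModW.K337.WCMod
import Groth.Agent.Sga5.IsQuotBasic

/-!
# Quotient maps modulo an ideal and sections over weakly contractible objects
-/

set_option autoImplicit false
universe u v w

open CategoryTheory CategoryTheory.Limits AlgebraicGeometry Opposite
open Groth.Agent.Sga5.IsQuotBasic ARSys

namespace K337.QuotWC

section Abelian

attribute [local instance] Abelian.hasFiniteBiproducts

variable {C : Type u} [Category.{v} C] [Abelian C] {A : Type w} [CommRing A] [Linear A C]

/-- The map `F^n ⟶ F`, `(x_i) ↦ ∑ a_i x_i`. -/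
noncomputable abbrev gens {n : ℕ} (a : Fin n → A) (F : C) : (⨁ fun _ : Fin n => F) ⟶ F :=
  biproduct.desc (fun i => a i • 𝟙 F)

theorem gens_comp_eq_zero_iff {n : ℕ} (a : Fin n → A) {F Y : C} (φ : F ⟶ Y) :
    gens a F ≫ φ = 0 ↔ HomKilledBy (Ideal.span (Set.range a)) φ := by
  rw [homKilledBy_span_iff]
  constructor
  · rintro h _ ⟨i, rfl⟩
    have := congrArg (fun t => biproduct.ι (fun _ : Fin n => F) i ≫ t) h
    simpa using this
  · intro h
    apply biproduct.hom_ext'
    intro i
    simpa using h _ ⟨i, rfl⟩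

/-- A quotient map modulo `(a_1, …, a_n)` is a cokernel of `gens a F`. -/
noncomputable def isColimit_of_isQuot {n : ℕ} (a : Fin n → A) {F Q : C} {p : F ⟶ Q}
    (hp : IsQuot (Ideal.span (Set.range a)) p) :
    IsColimit (CokernelCofork.ofπ p ((gens_comp_eq_zero_iff a p).2 (isQuot_homKilledBy hp))) :=
  CokernelCofork.IsColimit.ofπ _ _
    (fun φ hφ => desc hp φ ((gens_comp_eq_zero_iff a φ).1 hφ))
    (fun φ hφ => fac hp φ _)
    (fun φ hφ m hm => by
      have := isQuot_epi hp
      rw [← cancel_epi p, hm, fac])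

theorem exact_of_isQuot {n : ℕ} (a : Fin n → A) {F Q : C} {p : F ⟶ Q}
    (hp : IsQuot (Ideal.span (Set.range a)) p) :
    (ShortComplex.mk (gens a F) p
      ((gens_comp_eq_zero_iff a p).2 (isQuot_homKilledBy hp))).Exact :=
  ShortComplex.exact_of_g_is_cokernel _ (isColimit_of_isQuot a hp)

end Abelian

attribute [local instance] Abelian.hasFiniteBiproducts

variable {Λ : Type (u + 1)} [CommRing Λ] {X : Scheme.{u}}

/-- A quotient map modulo a finitely generated ideal on sections over a weakly contractible
object. -/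
theorem sections_of_isQuot {I : Ideal Λ} (hI : I.FG) {F Q : EtModW.ModP Λ X} {p : F ⟶ Q}
    (hp : IsQuot I p) {U : X.ProEt} (hU : ProEtS.IsWC U) :
    Function.Surjective (p.hom.app (op U)).hom ∧
      LinearMap.ker (p.hom.app (op U)).hom = I • (⊤ : Submodule Λ (F.obj.obj (op U))) := by
  have hepi := isQuot_epi hp
  refine ⟨Groth.Agent.Proet.DCSect.surjective_of_epi hU p, le_antisymm ?_ ?_⟩
  · obtain ⟨n, a, rfl⟩ := Submodule.fg_iff_exists_fin_generating_family.1 hI
    intro z hz
    have hex := exact_of_isQuot a hp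
    obtain ⟨w, hw⟩ := WCMod.exists_of_exact hU _ hex z hz
    have e : gens a F = ∑ i, a i • biproduct.π (fun _ : Fin n => F) i := by
      rw [gens, biproduct.desc_eq]
      exact Finset.sum_congr rfl fun i _ => by simp
    have h1 : z = ∑ i, a i • (biproduct.π (fun _ : Fin n => F) i).hom.app (op U) w := by
      rw [← hw]
      change ((WCMod.secU Λ U).map (gens a F)).hom w = _
      rw [e, Functor.map_sum]
      simp only [Functor.map_smul]
      rw [ModuleCat.hom_sum, LinearMap.sum_apply]
      rfl
    rw [h1]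
    exact Submodule.sum_mem _ fun i _ =>
      Submodule.smul_mem_smul (Ideal.subset_span ⟨i, rfl⟩) trivial
  · rw [Submodule.smul_le]
    rintro b hb x -
    have h := congrArg (fun t => (t.hom.app (op U)).hom x) (isQuot_homKilledBy hp b hb)
    rw [LinearMap.mem_ker, map_smul]
    exact h

/-- Criterion for quotient maps modulo an ideal in terms of sections over weakly contractible
objects. -/
theorem isQuot_of_sections {I : Ideal Λ} {F Q : EtModW.ModP Λ X} (p : F ⟶ Q)
    (h : ∀ U : X.ProEt, ProEtS.IsWC U → Function.Surjective (p.hom.app (op U)).hom ∧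
      LinearMap.ker (p.hom.app (op U)).hom = I • (⊤ : Submodule Λ (F.obj.obj (op U)))) :
    IsQuot I p := by
  rw [isQuot_iff_kernel]
  refine ⟨fun b hb => ?_, (WCMod.epi_iff_wc p).2 fun U hU => (h U hU).1, fun Y φ hφ => ?_⟩
  · refine WCMod.hom_eq_zero _ fun U hU z => ?_
    obtain ⟨x, rfl⟩ := (h U hU).1 z
    have h1 : b • x ∈ LinearMap.ker (p.hom.app (op U)).hom := by
      rw [(h U hU).2]
      exact Submodule.smul_mem_smul hb trivial
    have h2 : (p.hom.app (op U)).hom (b • x) = 0 := h1
    rw [map_smul] at h2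
    exact h2
  · refine WCMod.hom_eq_zero _ fun U hU z => ?_
    have h1 : (kernel.ι p).hom.app (op U) z ∈ LinearMap.ker (p.hom.app (op U)).hom := by
      have := congrArg (fun t => (t.hom.app (op U)).hom z) (kernel.condition p)
      exact this
    rw [(h U hU).2] at h1
    have h2 : I • (⊤ : Submodule Λ (F.obj.obj (op U))) ≤ LinearMap.ker (φ.hom.app (op U)).hom := by
      rw [Submodule.smul_le]
      rintro b hb x -
      have := congrArg (fun t => (t.hom.app (op U)).hom x) (hφ b hb)
      rw [LinearMap.mem_ker, map_smul]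
      exact this
    exact h2 h1

/-- Quotient maps modulo a finitely generated ideal in terms of sections over weakly contractible
objects. -/
theorem isQuot_iff_sections {I : Ideal Λ} (hI : I.FG) {F Q : EtModW.ModP Λ X} (p : F ⟶ Q) :
    IsQuot I p ↔ ∀ U : X.ProEt, ProEtS.IsWC U → Function.Surjective (p.hom.app (op U)).hom ∧
      LinearMap.ker (p.hom.app (op U)).hom = I • (⊤ : Submodule Λ (F.obj.obj (op U))) :=
  ⟨fun hp _ hU => sections_of_isQuot hI hp hU, isQuot_of_sections p⟩

end K337.QuotWC
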