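import Groth.Agent.EtModW.K337.AdicP2
import Groth.Agent.S3163
import Groth.Agent.S13621

/-!
# Kernels and cokernels of limits of adic systems

* `isARIso_map`: functors preserve isomorphisms up to translation;
* `shortExact_lim`: `lim eps⁻¹` of a short exact sequence with uniformly Mittag-Leffler left term;
* `exists_kernel`, `exists_cokernel`: kernel and cokernel of `lim eps⁻¹ u` for a morphism `u` of
  adic systems with Noetherian components.
-/

set_option autoImplicit false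
universe u v w v₁ v₂ u₁ u₂

open CategoryTheory CategoryTheory.Limits AlgebraicGeometry Opposite
open Groth.Agent.Sga5 Groth.Agent.Sga5.ARBasic Groth.Agent.Sga5.MLAR ARSys
open K337.AdicLim K337.ProMod K337.Lin K337.AdicP

namespace K337.AdicKer

section general

variable {C : Type u₁} [Category.{v₁} C] [Abelian C] {D : Type u₂} [Category.{v₂} D] [Abelian D]

/-- Functors preserve isomorphisms up to translation. -/
theorem isARIso_map (P : C ⥤ D) {X Y : PS C} {u : X ⟶ Y} (h : IsARIso u) :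
    IsARIso (Functor.whiskerRight u P) := by
  rw [isARIso_iff_qinv] at *
  obtain ⟨r, ⟨q⟩⟩ := h
  exact ⟨r, ⟨{
    v := fun n => P.map (q.v n)
    nat := fun n m hnm => by
      have := q.nat n m hnm
      change P.map _ ≫ P.map _ = P.map _ ≫ P.map _
      rw [← P.map_comp, ← P.map_comp, this]
    left := fun n => by
      change P.map _ ≫ P.map _ = P.map _
      rw [← P.map_comp, q.left]
    right := fun n => by
      change P.map _ ≫ P.map _ = P.map _
      rw [← P.map_comp, q.right] }⟩⟩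

theorem isIso_limP_map [HasLimitsOfShape ℕᵒᵖ D] (P : C ⥤ D) {X Y : PS C} {u : X ⟶ Y}
    (h : IsARIso u) : IsIso ((limP C P).map u) :=
  Groth.Agent.S13621.result (Functor.whiskerRight u P) (isARIso_map P h)

theorem isARAdicNoeth_of_isAdic {A : Type w} [CommRing A] [Linear A C] {I : Ideal A} {X : PS C}
    (h : IsAdic I X) (h' : ∀ n : ℕ, IsNoetherianObject (X.obj (op n))) : IsARAdicNoeth I X :=
  ⟨⟨h.1, X, 𝟙 X, h, isARIso_of_isIso _⟩, h'⟩

theorem isMLAR_of_isARAdic {A : Type w} [CommRing A] [Linear A C] {I : Ideal A} {X : PS C}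
    (h : IsARAdic I X) : IsMLAR X := by
  obtain ⟨-, Y, v, hY, hv⟩ := h
  exact isMLAR_of_isARIso hv (isMLAR_of_isStrict (isStrict_of_isAdic hY))

end general

variable {Λ : Type (u + 1)} [CommRing Λ] {I : Ideal Λ} {X : Scheme.{u}} [ProEtS.EpsCont X]

/-- The functor `lim eps⁻¹`. -/
noncomputable abbrev Phi (Λ : Type (u + 1)) [CommRing Λ] (X : Scheme.{u}) [ProEtS.EpsCont X] :
    PS (EtModW.Mod Λ X) ⥤ EtModW.ModP Λ X :=
  limP (EtModW.Mod Λ X) (EtModW.epsPullMod Λ X)

instance : (Phi Λ X).Additive where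
  map_add {G H f g} := by
    apply limit.hom_ext
    rintro ⟨n⟩
    refine (limP_map_π (EtModW.epsPullMod Λ X) _ n).trans ?_
    refine Eq.trans ?_ (Preadditive.add_comp _ _ _ _ _ _).symm
    refine Eq.trans ?_ (congrArg₂ (· + ·) (limP_map_π (EtModW.epsPullMod Λ X) f n).symm
      (limP_map_π (EtModW.epsPullMod Λ X) g n).symm)
    rw [← Preadditive.comp_add, ← Functor.map_add]
    rfl

instance : PreservesFiniteLimits (Phi Λ X) := by
  have h1 : PreservesFiniteLimits
      ((Functor.whiskeringRight ℕᵒᵖ (EtModW.Mod Λ X) (EtModW.ModP Λ X)).obj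
        (EtModW.epsPullMod Λ X)) := ⟨fun J _ _ => inferInstance⟩
  have h2 : PreservesFiniteLimits (lim : (ℕᵒᵖ ⥤ EtModW.ModP Λ X) ⥤ EtModW.ModP Λ X) :=
    inferInstance
  exact comp_preservesFiniteLimits _ _

/-- `lim eps⁻¹ B ⟶ lim eps⁻¹ C` is an epimorphism if the kernel system is Mittag-Leffler. -/
theorem epi_Phi (S : ShortComplex (PS (EtModW.Mod Λ X))) (hS : S.Exact) [Epi S.g]
    (hA : IsMLAR S.X₁) : Epi ((Phi Λ X).map S.g) := by
  obtain ⟨r, hr⟩ := (isMLAR_iff _).1 hA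
  let W := (Functor.whiskeringRight ℕᵒᵖ _ _).obj (EtModW.epsPullMod Λ X)
  refine K337.LimEpi.epi_limMap (S.map W) (fun n => ?_) (fun n => ?_)
    (K337.LimEpi.UML.map (EtModW.epsPullMod Λ X) hr)
  · exact (exact_app hS n).map (EtModW.epsPullMod Λ X)
  · have := epi_app S.g n
    exact inferInstanceAs (Epi ((EtModW.epsPullMod Λ X).map (S.g.app (op n))))

theorem shortExact_Phi (S : ShortComplex (PS (EtModW.Mod Λ X))) (hS : S.ShortExact)
    (hA : IsMLAR S.X₁) : (S.map (Phi Λ X)).ShortExact := by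
  have := hS.mono_f
  have := hS.epi_g
  have h1 : (S.map (Phi Λ X)).Exact ∧ Mono ((Phi Λ X).map S.f) :=
    (Functor.preservesFiniteLimits_iff_forall_exact_map_and_mono (Phi Λ X)).1 inferInstance S hS
  exact { exact := h1.1, mono_f := h1.2, epi_g := epi_Phi S hS.exact hA }

variable [IsNoetherianRing Λ]

/-- The cokernel of `lim eps⁻¹ u` and the kernel. -/
theorem exists_kernel_cokernel {G₁ G₂ : PS (EtModW.Mod Λ X)} (h₁ : IsARAdicNoeth I G₁)
    (h₂ : IsARAdicNoeth I G₂) (t : G₁ ⟶ G₂) :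
    (∃ Y : PS (EtModW.Mod Λ X), IsAdic I Y ∧ (∀ n : ℕ, IsNoetherianObject (Y.obj (op n))) ∧
      Nonempty ((Phi Λ X).obj Y ≅ kernel ((Phi Λ X).map t))) ∧
    (∃ Y : PS (EtModW.Mod Λ X), IsAdic I Y ∧ (∀ n : ℕ, IsNoetherianObject (Y.obj (op n))) ∧
      Nonempty ((Phi Λ X).obj Y ≅ cokernel ((Phi Λ X).map t))) := by
  obtain ⟨hK, hC⟩ := Groth.Agent.S3163.result I t h₁ h₂
  have him := (Groth.Agent.S3163.result I (cokernel.π t) h₂ hC).1
  constructor
  · obtain ⟨⟨-, Y, v, hY, hv⟩, hKn⟩ := hK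
    refine ⟨Y, hY, Groth.Agent.Sga5.AdicHom.isNoetherianObject_of_isARIso
      (isStrict_of_isAdic hY) hv hKn, ⟨?_⟩⟩
    have := isIso_limP_map (EtModW.epsPullMod Λ X) hv
    exact asIso ((Phi Λ X).map v) ≪≫ PreservesKernel.iso (Phi Λ X) t
  · obtain ⟨⟨-, Y, v, hY, hv⟩, hCn⟩ := hC
    refine ⟨Y, hY, Groth.Agent.Sga5.AdicHom.isNoetherianObject_of_isARIso
      (isStrict_of_isAdic hY) hv hCn, ⟨?_⟩⟩
    have := isIso_limP_map (EtModW.epsPullMod Λ X) hv
    -- `Φ t = Φ e ≫ Φ m` with `Φ e` an epimorphism and `Φ m` the kernel of `Φ π`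
    let e : G₁ ⟶ Abelian.image t := Abelian.factorThruImage t
    let m : Abelian.image t ⟶ G₂ := Abelian.image.ι t
    have hem : e ≫ m = t := Abelian.image.fac t
    have he0 : kernel.ι t ≫ e = 0 := by
      rw [← cancel_mono m, Category.assoc, hem, kernel.condition, zero_comp]
    have hS1 : (ShortComplex.mk (kernel.ι t) e he0).Exact := by
      have h3 : (ShortComplex.mk (kernel.ι t) t (kernel.condition t)).Exact :=
        ShortComplex.exact_kernel t
      rw [ShortComplex.exact_iff_exact_up_to_refinements] at h3 ⊢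
      intro A x hx
      refine h3 x ?_
      have hx' : x ≫ e = 0 := hx
      have h5 : x ≫ e ≫ m = 0 := by rw [reassoc_of% hx', zero_comp]
      exact (congrArg (fun s => x ≫ s) hem).symm.trans h5
    have h4 : Epi ((Phi Λ X).map e) :=
      epi_Phi (ShortComplex.mk (kernel.ι t) e he0) hS1 (isMLAR_of_isARAdic hK.1)
    have hS2 : (ShortComplex.mk m (cokernel.π t) (kernel.condition _)).ShortExact :=
      { exact := ShortComplex.exact_kernel _
        mono_f := inferInstanceAs (Mono (kernel.ι (cokernel.π t)))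
        epi_g := inferInstanceAs (Epi (cokernel.π t)) }
    have h5 := shortExact_Phi _ hS2 (isMLAR_of_isARAdic him.1)
    have h6 : (Phi Λ X).map e ≫ (Phi Λ X).map m = (Phi Λ X).map t := by
      rw [← Functor.map_comp, hem]
    have e1 := (cokernelIsCokernel ((Phi Λ X).map m)).coconePointUniqueUpToIso h5.gIsCokernel
    exact asIso ((Phi Λ X).map v) ≪≫ e1.symm ≪≫
      (cokernelEpiComp ((Phi Λ X).map e) ((Phi Λ X).map m)).symm ≪≫ cokernelIsoOfEq h6

/-- Kernels and cokernels of morphisms of `I`-adic pro-étale sheaves are `I`-adic, given S14009 and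
the equivalence of constructible and Noetherian. -/
theorem isAdicP_kernel_cokernel (h9 : ProjQuot Λ I X)
    (hN : ∀ E : EtModW.Mod Λ X, EtModW.IsConstructible Λ E ↔ IsNoetherianObject E)
    {F G : EtModW.ModP Λ X} (hF : IsAdicP Λ I F) (hG : IsAdicP Λ I G) (w : F ⟶ G) :
    IsAdicP Λ I (kernel w) ∧ IsAdicP Λ I (cokernel w) := by
  obtain ⟨G₁, hG₁, hc₁, ⟨e₁⟩⟩ := exists_adic hF
  obtain ⟨G₂, hG₂, hc₂, ⟨e₂⟩⟩ := exists_adic hG
  obtain ⟨t, ht⟩ := map_surjective (EtModW.epsPullMod Λ X) h9 hG₁ hG₂.1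
    (show (Phi Λ X).obj G₁ ⟶ (Phi Λ X).obj G₂ from e₁.hom ≫ w ≫ e₂.inv)
  have ht' : (Phi Λ X).map t ≫ e₂.hom = e₁.hom ≫ w := by
    rw [ht]
    simp
  obtain ⟨⟨Y, hY, hYn, ⟨eY⟩⟩, ⟨Z, hZ, hZn, ⟨eZ⟩⟩⟩ := exists_kernel_cokernel
    (isARAdicNoeth_of_isAdic hG₁ fun n => (hN _).1 (hc₁ n))
    (isARAdicNoeth_of_isAdic hG₂ fun n => (hN _).1 (hc₂ n)) t
  constructor
  · exact (isAdicP_lim h9 Y hY fun n => (hN _).2 (hYn n)).of_iso
      (eY ≪≫ kernel.mapIso _ _ e₁ e₂ ht')
  · exact (isAdicP_lim h9 Z hZ fun n => (hN _).2 (hZn n)).of_iso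
      (eZ ≪≫ cokernel.mapIso _ _ e₁ e₂ ht')

end K337.AdicKer
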