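import Groth.Agent.Sga5.AdicHom
import Groth.Agent.Sga5.IsQuotBasic
import Groth.Agent.S13621
import Mathlib.CategoryTheory.Linear.FunctorCategory
import Mathlib.CategoryTheory.Linear.LinearFunctor

/-!
# Limits of adic systems along a fully faithful exact functor

For an exact, full and faithful `A`-linear functor `P : C ⥤ D` of abelian categories:

* `isQuot_of_map`, `isAdic_of_map`: `P` reflects quotient maps modulo an ideal and adic systems;
* `exists_tower`: a projective system in `D` with all terms in the image of `P` comes from `C`;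
* `full_lim`, `faithful_lim`: `G ↦ lim P G_n` is fully faithful on adic systems if the projections
  of the limits are quotient maps.
-/

set_option autoImplicit false
universe u v w v₁ v₂ u₁ u₂

open CategoryTheory CategoryTheory.Limits Opposite
open Groth.Agent.Sga5 Groth.Agent.Sga5.IsQuotBasic ARSys

namespace K337.AdicLim

variable {A : Type w} [CommRing A]

section tower

variable {C : Type u₁} [Category.{v₁} C] [Preadditive C] [Linear A C] {I : Ideal A}

/-- A tower of quotient maps modulo the powers of `I` is `I`-adic. -/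
theorem isAdic_of_tower {F : C} {Q : PS C} (p : (Functor.const ℕᵒᵖ).obj F ⟶ Q)
    (h : ∀ n : ℕ, IsQuot (I ^ (n + 1)) (p.app (op n))) : IsAdic I Q := by
  refine ⟨fun n => (h n).1, fun n m hnm => ?_⟩
  have h1 : p.app (op m) ≫ tr Q hnm = p.app (op n) := by
    have := p.naturality (homOfLE hnm).op
    simp only [Functor.const_obj_obj, Functor.const_obj_map, Category.id_comp] at this
    exact this.symm
  have := isQuot_epi (h m)
  exact isQuot_of_comp (p := p.app (op m)) (h1 ▸ h n)

end tower

variable {C : Type u₁} [Category.{v₁} C] [Abelian C] [Linear A C] {D : Type u₂} [Category.{v₂} D]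
  [Abelian D] [Linear A D] (P : C ⥤ D)

section reflect

variable [P.Full] [P.Faithful] [P.Additive] [P.Linear A]

omit [P.Full] in
theorem killedBy_of_map {I : Ideal A} {X : C} (h : KilledBy I (P.obj X)) : KilledBy I X := by
  intro a ha
  apply P.map_injective
  rw [P.map_smul, P.map_id, h a ha, P.map_zero]

omit [P.Full] [P.Faithful] in
theorem killedBy_map {I : Ideal A} {X : C} (h : KilledBy I X) : KilledBy I (P.obj X) := by
  intro a ha
  rw [← P.map_id, ← P.map_smul, h a ha, P.map_zero]

/-- `P` reflects quotient maps modulo an ideal. -/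
theorem isQuot_of_map {I : Ideal A} {X Q : C} {p : X ⟶ Q} (h : IsQuot I (P.map p)) :
    IsQuot I p := by
  have h1 := isQuot_epi h
  have : Epi p := P.epi_of_epi_map h1
  refine isQuot_of_epi _ (killedBy_of_map P h.1) fun Y φ hφ => ?_
  have h2 : HomKilledBy I (P.map φ) := fun a ha => by
    rw [← P.map_smul, hφ a ha, P.map_zero]
  refine ⟨P.preimage (desc h (P.map φ) h2), ?_⟩
  apply P.map_injective
  rw [P.map_comp, P.map_preimage, fac]

/-- `P` reflects adic systems. -/
theorem isAdic_of_map {I : Ideal A} {G : PS C} (h : IsAdic I (G ⋙ P)) : IsAdic I G :=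
  ⟨fun n => killedBy_of_map P (h.1 n), fun n m hnm => isQuot_of_map P (h.2 n m hnm)⟩

omit [P.Full] [P.Faithful] in
/-- `P` preserves adic systems if it preserves quotient maps. -/
theorem isAdic_map {I : Ideal A}
    (hP : ∀ (n : ℕ) {X Q : C} {p : X ⟶ Q}, IsQuot (I ^ n) p → IsQuot (I ^ n) (P.map p))
    {G : PS C} (h : IsAdic I G) : IsAdic I (G ⋙ P) :=
  ⟨fun n => killedBy_map P (h.1 n), fun n m hnm => hP _ (h.2 n m hnm)⟩

end reflect

section descend

variable [P.Full] [P.Faithful]

omit [Abelian C] [Abelian D] in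
/-- A projective system with all terms in the image of `P` comes from a projective system. -/
theorem exists_tower (pc : C → Prop) (Q : PS D)
    (hQ : ∀ n : ℕ, ∃ E : C, pc E ∧ Nonempty (P.obj E ≅ Q.obj (op n))) :
    ∃ G : PS C, (∀ n : ℕ, pc (G.obj (op n))) ∧ Nonempty (G ⋙ P ≅ Q) := by
  choose E hE e using hQ
  have e' := fun n => (e n).some
  let G : PS C :=
    { obj := fun n => E n.unop
      map := fun {n m} f => P.preimage ((e' n.unop).hom ≫ Q.map f ≫ (e' m.unop).inv)
      map_id := fun n => by
        apply P.map_injective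
        rw [P.map_preimage, Q.map_id, P.map_id, Category.id_comp]
        exact (e' n.unop).hom_inv_id
      map_comp := fun {n m k} f g => by
        apply P.map_injective
        simp }
  refine ⟨G, fun n => hE n, ⟨NatIso.ofComponents (fun n => e' n.unop) fun {n m} f => ?_⟩⟩
  simp only [Functor.comp_map, G, P.map_preimage, Category.assoc]
  rw [Iso.inv_hom_id, Category.comp_id]

end descend

section ff

variable [P.Full] [P.Faithful] [P.Additive] [P.Linear A] [HasLimitsOfShape ℕᵒᵖ D] {I : Ideal A}
  (h9 : ∀ G : PS C, IsAdic I G → ∀ n : ℕ, IsQuot (I ^ (n + 1)) (limit.π (G ⋙ P) (op n)))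

variable (C) in
/-- The functor `G ↦ lim P G_n`. -/
noncomputable abbrev limP : PS C ⥤ D :=
  (Functor.whiskeringRight ℕᵒᵖ C D).obj P ⋙ lim

omit [P.Full] [P.Faithful] [P.Additive] [P.Linear A] [Abelian C] [Linear A C] [Abelian D] [Linear A D] in
theorem limP_map_π {G H : PS C} (u : G ⟶ H) (n : ℕ) :
    (limP C P).map u ≫ limit.π (H ⋙ P) (op n) = limit.π (G ⋙ P) (op n) ≫ P.map (u.app (op n)) :=
  limMap_π _ _

include h9

omit [P.Full] [P.Additive] [P.Linear A] in
theorem map_injective {G H : PS C} (hG : IsAdic I G) {u v : G ⟶ H}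
    (h : (limP C P).map u = (limP C P).map v) : u = v := by
  apply Groth.Agent.Sga5.ARBasic.hom_ext
  intro n
  apply P.map_injective
  have := isQuot_epi (h9 G hG n)
  rw [← cancel_epi (limit.π (G ⋙ P) (op n)), ← limP_map_π, ← limP_map_π, h]

theorem map_surjective {G H : PS C} (hG : IsAdic I G) (hH : TermKilled I H)
    (w : (limP C P).obj G ⟶ (limP C P).obj H) : ∃ u : G ⟶ H, (limP C P).map u = w := by
  have hk : ∀ n : ℕ, HomKilledBy (I ^ (n + 1)) (w ≫ limit.π (H ⋙ P) (op n)) := fun n =>
    homKilledBy_to (killedBy_map P (hH n)) _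
  let t : ∀ n : ℕ, P.obj (G.obj (op n)) ⟶ P.obj (H.obj (op n)) := fun n =>
    desc (h9 G hG n) (w ≫ limit.π (H ⋙ P) (op n)) (hk n)
  have ht : ∀ n : ℕ, limit.π (G ⋙ P) (op n) ≫ t n = w ≫ limit.π (H ⋙ P) (op n) := fun n =>
    fac (h9 G hG n) _ (hk n)
  let u : G ⟶ H :=
    { app := fun n => P.preimage (t n.unop)
      naturality := fun n m f => by
        apply P.map_injective
        have := isQuot_epi (h9 G hG n.unop)
        rw [← cancel_epi (limit.π (G ⋙ P) (op n.unop)), P.map_comp, P.map_comp, P.map_preimage,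
          P.map_preimage]
        have h1 : limit.π (G ⋙ P) (op n.unop) ≫ P.map (G.map f) = limit.π (G ⋙ P) (op m.unop) :=
          limit.w (G ⋙ P) f
        have h2 : limit.π (H ⋙ P) (op n.unop) ≫ P.map (H.map f) = limit.π (H ⋙ P) (op m.unop) :=
          limit.w (H ⋙ P) f
        rw [reassoc_of% h1, reassoc_of% (ht n.unop), h2, ht] }
  refine ⟨u, ?_⟩
  apply limit.hom_ext
  rintro ⟨n⟩
  refine (limP_map_π P u n).trans ((?_ : _ = _).trans (ht n))
  simp only [u, P.map_preimage]

/-- `G ↦ lim P G_n` is full on adic systems. -/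
theorem full_lim : (ObjectProperty.ι (fun G : PS C => IsAdic I G) ⋙ limP C P).Full where
  map_surjective {G H} w := by
    obtain ⟨u, hu⟩ := map_surjective P h9 G.2 H.2.1 w
    exact ⟨ObjectProperty.homMk u, hu⟩

/-- `G ↦ lim P G_n` is faithful on adic systems. -/
theorem faithful_lim : (ObjectProperty.ι (fun G : PS C => IsAdic I G) ⋙ limP C P).Faithful where
  map_injective {G H} u v h := by
    apply ObjectProperty.hom_ext
    exact map_injective P h9 G.2 h

end ff

end K337.AdicLim
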