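import Groth.Agent.EtModW.K337.ProEps
import Groth.Agent.Sga5.IsQuotBasic
import Mathlib.CategoryTheory.Linear.FunctorCategory

/-!
# `I`-adic pro-étale sheaves: the predicate, transport along functors

* `isIso_lift_iff`: `limit.lift D c` is an isomorphism iff `c` is a limit cone.
* `linear_of_adj`: a left adjoint of a linear functor is linear.
* `isQuot_map_of_adj`: left adjoints preserve quotient maps modulo an ideal.
* `IsAdicP I F`; `IsAdicP.of_iso`, `IsAdicP.transport`.
-/

set_option autoImplicit false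
universe u v w v₁ v₂ u₁ u₂

open CategoryTheory CategoryTheory.Limits AlgebraicGeometry Opposite
open Groth.Agent.Sga5.IsQuotBasic ARSys

namespace K337.AdicP

section General

theorem isIso_lift_iff {J : Type u₁} [Category.{v₁} J] {C : Type u₂} [Category.{v₂} C] {D : J ⥤ C}
    [HasLimit D] (c : Cone D) : IsIso (limit.lift D c) ↔ Nonempty (IsLimit c) := by
  constructor
  · intro h
    have : IsIso ((limit.isLimit D).lift c) := h
    exact ⟨IsLimit.ofPointIso (limit.isLimit D)⟩
  · rintro ⟨hc⟩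
    exact (hc.conePointUniqueUpToIso (limit.isLimit D)).isIso_hom

variable {C : Type u₁} [Category.{v₁} C] [Preadditive C] {D : Type u₂} [Category.{v₂} D]
  [Preadditive D] {A : Type w} [CommRing A] [Linear A C] [Linear A D]

/-- A left adjoint of a linear functor is linear. -/
theorem linear_of_adj {L : C ⥤ D} {R : D ⥤ C} (adj : L ⊣ R) [L.Additive] [R.Additive] [R.Linear A] :
    L.Linear A where
  map_smul {X Y} f r := by
    apply (adj.homEquiv _ _).injective
    rw [adj.homEquiv_unit, adj.homEquiv_unit, R.map_smul, Linear.comp_smul]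
    have h1 := adj.unit.naturality (r • f)
    have h2 := adj.unit.naturality f
    simp only [Functor.comp_map, Functor.id_map] at h1 h2
    rw [← h1, ← h2, Linear.smul_comp]

variable {L : C ⥤ D} {R : D ⥤ C} (adj : L ⊣ R) [L.Additive] [R.Additive]

include adj in
/-- Left adjoints preserve quotient maps modulo an ideal. -/
theorem isQuot_map_of_adj [R.Linear A] {I : Ideal A} {F Q : C} {p : F ⟶ Q} (hp : IsQuot I p) :
    IsQuot I (L.map p) := by
  have := linear_of_adj (A := A) adj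
  have := isQuot_epi hp
  have : L.PreservesEpimorphisms := Functor.preservesEpimorphisms_of_adjunction adj
  refine isQuot_of_epi _ (fun a ha => ?_) (fun Y φ hφ => ?_)
  · rw [← CategoryTheory.Functor.map_id, ← L.map_smul, hp.1 a ha, L.map_zero]
  · let φ' : F ⟶ R.obj Y := adj.homEquiv _ _ φ
    have hφ' : HomKilledBy I φ' := by
      intro a ha
      change a • adj.homEquiv _ _ φ = 0
      rw [adj.homEquiv_unit, ← Linear.comp_smul, ← R.map_smul, hφ a ha, R.map_zero, comp_zero]
    refine ⟨(adj.homEquiv _ _).symm (desc hp φ' hφ'), ?_⟩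
    rw [← adj.homEquiv_naturality_left_symm, fac]
    exact (adj.homEquiv _ _).symm_apply_apply φ

end General

variable (Λ : Type (u + 1)) [CommRing Λ] (I : Ideal Λ) {X : Scheme.{u}} [ProEtS.EpsCont X]

/-- `F` is an `I`-adic pro-étale sheaf. -/
def IsAdicP (F : EtModW.ModP Λ X) : Prop :=
  ∃ (Q : ℕᵒᵖ ⥤ EtModW.ModP Λ X) (p : (Functor.const ℕᵒᵖ).obj F ⟶ Q),
    (∀ n : ℕ, ARSys.IsQuot (I ^ (n + 1)) (p.app (op n))) ∧
    (∀ n : ℕ, ∃ E : EtModW.Mod Λ X, EtModW.IsConstructible Λ E ∧
      Nonempty ((EtModW.epsPullMod Λ X).obj E ≅ Q.obj (op n))) ∧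
    IsIso (limit.lift Q (Cone.mk F p))

variable {Λ I}

theorem IsAdicP.of_iso {F G : EtModW.ModP Λ X} (e : F ≅ G) (hF : IsAdicP Λ I F) :
    IsAdicP Λ I G := by
  obtain ⟨Q, p, h1, h2, h3⟩ := hF
  refine ⟨Q, (Functor.const ℕᵒᵖ).map e.inv ≫ p, fun n => ?_, h2, ?_⟩
  · exact isQuot_iso_comp (h1 n) e.inv
  · rw [isIso_lift_iff] at h3 ⊢
    obtain ⟨h3⟩ := h3
    exact ⟨IsLimit.ofIsoLimit h3 (Cone.ext e fun n => by simp)⟩

variable {Y : Scheme.{u}} [ProEtS.EpsCont Y]

/-- Transport of `I`-adic pro-étale sheaves along a functor. -/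
theorem IsAdicP.transport (T : EtModW.ModP Λ X ⥤ EtModW.ModP Λ Y) [PreservesLimitsOfShape ℕᵒᵖ T]
    (hquot : ∀ (J : Ideal Λ) {F Q : EtModW.ModP Λ X} (p : F ⟶ Q), IsQuot J p → IsQuot J (T.map p))
    (hc : ∀ E : EtModW.Mod Λ X, EtModW.IsConstructible Λ E → ∃ E' : EtModW.Mod Λ Y,
      EtModW.IsConstructible Λ E' ∧
        Nonempty ((EtModW.epsPullMod Λ Y).obj E' ≅ T.obj ((EtModW.epsPullMod Λ X).obj E)))
    {F : EtModW.ModP Λ X} (hF : IsAdicP Λ I F) : IsAdicP Λ I (T.obj F) := by
  obtain ⟨Q, p, h1, h2, h3⟩ := hF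
  let p' : (Functor.const ℕᵒᵖ).obj (T.obj F) ⟶ Q ⋙ T :=
    { app := fun n => T.map (p.app n)
      naturality := fun n m f => by
        have := p.naturality f
        simp only [Functor.const_obj_obj, Functor.const_obj_map, Category.id_comp] at this
        simp only [Functor.const_obj_obj, Functor.const_obj_map, Category.id_comp,
          Functor.comp_map]
        rw [this, T.map_comp] }
  refine ⟨Q ⋙ T, p', fun n => hquot _ _ (h1 n), fun n => ?_, ?_⟩
  · obtain ⟨E, hE, ⟨e⟩⟩ := h2 n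
    obtain ⟨E', hE', ⟨e'⟩⟩ := hc E hE
    exact ⟨E', hE', ⟨e' ≪≫ T.mapIso e⟩⟩
  · rw [isIso_lift_iff] at h3 ⊢
    obtain ⟨h3⟩ := h3
    exact ⟨(isLimitOfPreserves T h3).ofIsoLimit (Cone.ext (Iso.refl _) fun n => by simp [p'])⟩

end K337.AdicP
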