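import Groth.Agent.EtModW.K337.WCMod
import Groth.Agent.Sga5.MLAR

/-!
# Limits over `ℕᵒᵖ` of pro-étale sheaves of modules and the Mittag-Leffler condition

* `exists_lift`: the elementary Mittag-Leffler argument for systems of modules;
* `UML.map`: exact functors preserve the uniform Mittag-Leffler condition;
* `epi_limMap`: for an exact sequence `A → B → C → 0` of systems of pro-étale sheaves of modules
  with `A` uniformly Mittag-Leffler, `lim B ⟶ lim C` is an epimorphism.
-/

set_option autoImplicit false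
universe u v w v₁ v₂ u₁ u₂

open CategoryTheory CategoryTheory.Limits AlgebraicGeometry Opposite
open Groth.Agent.Sga5 Groth.Agent.Sga5.MLAR ARSys K337.WCMod

namespace K337.LimEpi

section modules

variable {R : Type u} [CommRing R] {A B C : PS (ModuleCat.{v} R)} (f : A ⟶ B) (g : B ⟶ C)

theorem tr_tr_apply (X : PS (ModuleCat.{v} R)) {n m k : ℕ} (h : n ≤ m) (h' : m ≤ k)
    (x : X.obj (op k)) : tr X h (tr X h' x) = tr X (h.trans h') x := by
  rw [← Groth.Agent.Sga5.ARBasic.tr_comp X h h']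
  rfl

theorem tr_self_apply (X : PS (ModuleCat.{v} R)) {n : ℕ} (h : n ≤ n)
    (x : X.obj (op n)) : tr X h x = x := by
  rw [Groth.Agent.Sga5.ARBasic.tr_refl X n h]
  rfl

theorem tr_nat_apply {X Y : PS (ModuleCat.{v} R)} (f : X ⟶ Y) {n m : ℕ} (h : n ≤ m)
    (x : X.obj (op m)) : f.app (op n) (tr X h x) = tr Y h (f.app (op m) x) :=
  ConcreteCategory.congr_hom (Groth.Agent.Sga5.ARBasic.tr_nat f h) x

/-- A family compatible with the transition maps `X_{n+1} ⟶ X_n` is compatible. -/
theorem compat_of_succ (X : PS (ModuleCat.{v} R)) (y : ∀ n : ℕ, X.obj (op n))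
    (h : ∀ n : ℕ, tr X (Nat.le_succ n) (y (n + 1)) = y n) (n m : ℕ) (hnm : n ≤ m) :
    tr X hnm (y m) = y n := by
  induction m, hnm using Nat.le_induction with
  | base => exact tr_self_apply X _ _
  | succ m hm ih =>
    rw [← tr_tr_apply X hm (Nat.le_succ m), h, ih]

/-- The Mittag-Leffler argument: compatible families lift. -/
theorem exists_lift
    (hex : ∀ (n : ℕ) (y : B.obj (op n)), g.app (op n) y = 0 → ∃ x, f.app (op n) x = y)
    (hzero : ∀ (n : ℕ) (x : A.obj (op n)), g.app (op n) (f.app (op n) x) = 0)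
    (hg : ∀ n : ℕ, Function.Surjective (g.app (op n)))
    (r : ℕ) (hml : ∀ (n k m : ℕ) (h : n ≤ k) (_ : n + r ≤ m) (hnm : n ≤ m) (x : A.obj (op m)),
      ∃ x' : A.obj (op k), tr A h x' = tr A hnm x)
    (z : ∀ n : ℕ, C.obj (op n)) (hz : ∀ (n m : ℕ) (h : n ≤ m), tr C h (z m) = z n) :
    ∃ y : ∀ n : ℕ, B.obj (op n), (∀ (n m : ℕ) (h : n ≤ m), tr B h (y m) = y n) ∧
      ∀ n : ℕ, g.app (op n) (y n) = z n := by
  choose y₀ hy₀ using fun n => hg n (z n)
  let y₁ : ∀ n : ℕ, B.obj (op n) := fun n => tr B (Nat.le_add_right n r) (y₀ (n + r))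
  have hy₁ : ∀ n, g.app (op n) (y₁ n) = z n := fun n => by
    rw [tr_nat_apply, hy₀, hz]
  have hd : ∀ n : ℕ, ∃ e : A.obj (op (n + r)),
      f.app (op (n + r)) e = tr B (show n + r ≤ n + 1 + r by omega) (y₀ (n + 1 + r)) -
        y₀ (n + r) := fun n => by
    apply hex
    rw [map_sub, tr_nat_apply, hy₀, hy₀, hz, sub_self]
  choose e he using hd
  have hrec : ∀ (n : ℕ) (w : A.obj (op (n + r))), ∃ w' : A.obj (op (n + 1 + r)),
      tr A (show n ≤ n + 1 + r by omega) w' =
        tr A (Nat.le_add_right n r) w - tr A (Nat.le_add_right n r) (e n) := fun n w => by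
    rw [← map_sub]
    exact hml n (n + 1 + r) (n + r) _ le_rfl _ _
  choose wn hwn using hrec
  let w : ∀ n : ℕ, A.obj (op (n + r)) := fun n => Nat.rec 0 (fun n w => wn n w) n
  have hw : ∀ n, w (n + 1) = wn n (w n) := fun n => rfl
  refine ⟨fun n => y₁ n + f.app (op n) (tr A (Nat.le_add_right n r) (w n)),
    compat_of_succ B _ fun n => ?_, fun n => ?_⟩
  · have h1 : tr B (Nat.le_succ n) (y₁ (n + 1)) = y₁ n +
        f.app (op n) (tr A (Nat.le_add_right n r) (e n)) := by
      rw [tr_nat_apply, he, map_sub, tr_tr_apply, tr_tr_apply]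
      change _ = tr B _ _ + _
      abel
    have h2 : tr B (Nat.le_succ n)
        (f.app (op (n + 1)) (tr A (Nat.le_add_right (n + 1) r) (w (n + 1)))) =
        f.app (op n) (tr A (Nat.le_add_right n r) (w n)) -
          f.app (op n) (tr A (Nat.le_add_right n r) (e n)) := by
      rw [← tr_nat_apply, tr_tr_apply, hw, hwn, map_sub]
    rw [map_add, h1, h2]
    abel
  · rw [map_add, hy₁, hzero, add_zero]

end modules

section UMLmap

variable {C : Type u₁} [Category.{v₁} C] [Abelian C] {D : Type u₂} [Category.{v₂} D] [Abelian D]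
  (P : C ⥤ D) [PreservesFiniteColimits P] [P.Additive]

/-- Right exact functors preserve the uniform Mittag-Leffler condition. -/
theorem UML.map {X : PS C} {r : ℕ} (hX : UML X r) : UML (X ⋙ P) r := by
  intro n k m hk hm hm' T φ hφ
  let π := cokernel.π (tr X hk)
  have h1 : tr X hm' ≫ π = 0 := hX n k m hk hm hm' π (cokernel.condition _)
  let e : cokernel (P.map (tr X hk)) ≅ P.obj (cokernel (tr X hk)) :=
    (PreservesCokernel.iso P (tr X hk)).symm
  have h2 : cokernel.π (P.map (tr X hk)) ≫ e.hom = P.map π := by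
    simp [e, π]
  have hφ' : P.map (tr X hk) ≫ φ = 0 := hφ
  have h3 : φ = P.map π ≫ e.inv ≫ cokernel.desc _ φ hφ' := by
    rw [← h2]
    simp
  change P.map (tr X hm') ≫ φ = 0
  rw [h3, ← Category.assoc, ← P.map_comp, h1, P.map_zero, zero_comp]

end UMLmap

variable {Λ : Type (u + 1)} [CommRing Λ] {X : Scheme.{u}}

/-- `lim B ⟶ lim C` is an epimorphism if `A → B → C → 0` is exact with `A` Mittag-Leffler. -/
theorem epi_limMap (S : ShortComplex (PS (EtModW.ModP Λ X)))
    (hSn : ∀ n : ℕ, (S.map ((evaluation _ _).obj (op n))).Exact)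
    (hg : ∀ n : ℕ, Epi (S.g.app (op n)))
    {r : ℕ} (hA : UML S.X₁ r) : Epi (limMap S.g) := by
  rw [epi_iff_wc]
  intro U hU z
  let ev := (Functor.whiskeringRight ℕᵒᵖ _ _).obj (secU Λ U)
  obtain ⟨y, hy1, hy2⟩ := exists_lift (ev.map S.f) (ev.map S.g)
    (fun n y hy => exists_of_exact hU (S.map ((evaluation _ _).obj (op n))) (hSn n) y hy)
    (fun n x => by
      have := Groth.Agent.Sga5.ARBasic.zero_app' S n
      exact congrArg (fun t => (t.hom.app (op U)).hom x) this)
    (fun n => (epi_iff_wc (S.g.app (op n))).1 (hg n) U hU)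
    r
    (fun n k m hk hm hnm x => by
      let π := cokernel.π (tr S.X₁ hk)
      have h1 : tr S.X₁ hnm ≫ π = 0 := hA n k m hk hm hnm π (cokernel.condition _)
      refine exists_of_exact hU (ShortComplex.mk (tr S.X₁ hk) π (cokernel.condition _))
        (ShortComplex.exact_cokernel _) _ ?_
      exact congrArg (fun t => (t.hom.app (op U)).hom x) h1)
    (fun n => (limit.π S.X₃ (op n)).hom.app (op U) z)
    (fun n m h => congrArg (fun t => (t.hom.app (op U)).hom z) (limit.w S.X₃ (homOfLE h).op))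
  obtain ⟨t, ht, -⟩ := existsUnique_lim (limit.isLimit S.X₂) U y hy1
  refine ⟨t, lim_ext (limit.isLimit S.X₃) U fun n => ?_⟩
  have h1 : limMap S.g ≫ limit.π S.X₃ (op n) = limit.π S.X₂ (op n) ≫ S.g.app (op n) :=
    limMap_π _ _
  have h2 := congrArg (fun s => (s.hom.app (op U)).hom t) h1
  refine h2.trans ?_
  have h3 := ht n
  have h4 : (limit.π S.X₂ (op n) ≫ S.g.app (op n)).hom.app (op U) t =
    (S.g.app (op n)).hom.app (op U) ((limit.π S.X₂ (op n)).hom.app (op U) t) := rfl
  refine h4.trans ?_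
  refine (congrArg _ h3).trans ?_
  exact hy2 n

end K337.LimEpi
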