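import Groth.Agent.EtModW.K337.AdicP

/-!
# Linearity of the functors between categories of sheaves of modules
-/

set_option autoImplicit false
universe u v w v₁ v₂ u₁ u₂

open CategoryTheory CategoryTheory.Limits AlgebraicGeometry Opposite
open Groth.Agent.Sga5.IsQuotBasic ARSys K337.ProMod K337.AdicP

namespace K337.Lin

section General

variable (Λ : Type (u + 1)) [CommRing Λ] {C : Type (u + 1)} [Category.{u} C]
  (J : GrothendieckTopology C) {D : Type (u + 1)} [Category.{u} D] (G : C ⥤ D)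
  (K : GrothendieckTopology D) [G.IsContinuous J K]

instance additive_push :
    (G.sheafPushforwardContinuous (ModuleCat.{u + 1} Λ) J K).Additive where

instance linear_push : (G.sheafPushforwardContinuous (ModuleCat.{u + 1} Λ) J K).Linear Λ where

end General

variable (Λ : Type (u + 1)) [CommRing Λ]

instance linear_eps (X : Scheme.{u}) [ProEtS.EpsCont X] : (EtModW.epsPullMod Λ X).Linear Λ :=
  linear_of_adj (epsAdjM Λ X)

instance linear_pullM {X Y : Scheme.{u}} (f : X ⟶ Y) [ProEtS.PCont f] : (pullM Λ f).Linear Λ :=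
  linear_of_adj (pullPushAdjM Λ f)

instance additive_extZeroM {U X : Scheme.{u}} (j : U ⟶ X) [WeaklyEtale j] [ProEtS.JPCont j] :
    (extZeroM Λ j).Additive :=
  (extZeroAdjM Λ j).left_adjoint_additive

instance linear_extZeroM {U X : Scheme.{u}} (j : U ⟶ X) [WeaklyEtale j] [ProEtS.JPCont j] :
    (extZeroM Λ j).Linear Λ :=
  linear_of_adj (extZeroAdjM Λ j)

variable {Λ}

theorem isQuot_extZeroM {U X : Scheme.{u}} (j : U ⟶ X) [WeaklyEtale j] [ProEtS.JPCont j]
    {I : Ideal Λ} {F Q : EtModW.ModP Λ U} {p : F ⟶ Q} (hp : IsQuot I p) :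
    IsQuot I ((extZeroM Λ j).map p) :=
  isQuot_map_of_adj (extZeroAdjM Λ j) hp

theorem isQuot_pullM {X Y : Scheme.{u}} (f : X ⟶ Y) [ProEtS.PCont f]
    {I : Ideal Λ} {F Q : EtModW.ModP Λ Y} {p : F ⟶ Q} (hp : IsQuot I p) :
    IsQuot I ((pullM Λ f).map p) :=
  isQuot_map_of_adj (pullPushAdjM Λ f) hp

theorem isQuot_eps {X : Scheme.{u}} [ProEtS.EpsCont X]
    {I : Ideal Λ} {F Q : EtModW.Mod Λ X} {p : F ⟶ Q} (hp : IsQuot I p) :
    IsQuot I ((EtModW.epsPullMod Λ X).map p) :=
  isQuot_map_of_adj (epsAdjM Λ X) hp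

/-- limits over `ℕᵒᵖ` from limits over categories in `Type u`. -/
theorem preservesLimitsOfShape_nat {C : Type u₁} [Category.{v₁} C] {D : Type u₂} [Category.{v₂} D]
    (F : C ⥤ D) (h : ∀ (J : Type u) [SmallCategory J], PreservesLimitsOfShape J F) :
    PreservesLimitsOfShape ℕᵒᵖ F := by
  have h1 : PreservesLimitsOfSize.{u, u} F := ⟨fun {J} _ => h J⟩
  have h2 : PreservesLimitsOfSize.{0, 0} F := preservesLimitsOfSize_shrink.{0, u, 0, u} F
  infer_instance

end K337.Lin
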