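import Groth.Agent.EtModW.K337.AdicP
import Groth.Agent.EtModW.K337.AdicLim
import Groth.Agent.EtModW.K337.Lin
import Groth.Agent.EtModW.K337.LimEpi

/-!
# `I`-adic pro-étale sheaves and adic systems of étale sheaves

* `exists_adic`: the tower of an `I`-adic pro-étale sheaf comes from an `I`-adic system of
  constructible étale sheaves;
* `isAdicP_lim`, `isAdicP_iff`: conversely, given that the projections `lim eps⁻¹ G ⟶ eps⁻¹ G_n`
  are quotient maps (statement S14009).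
-/

set_option autoImplicit false
universe u v w v₁ v₂ u₁ u₂

open CategoryTheory CategoryTheory.Limits AlgebraicGeometry Opposite
open Groth.Agent.Sga5.IsQuotBasic ARSys K337.AdicLim K337.ProMod K337.Lin

namespace K337.AdicP

variable {Λ : Type (u + 1)} [CommRing Λ] {I : Ideal Λ} {X : Scheme.{u}} [ProEtS.EpsCont X]

/-- The tower of an `I`-adic pro-étale sheaf comes from an adic system of constructible sheaves. -/
theorem exists_adic_tower {F : EtModW.ModP Λ X} {Q : ℕᵒᵖ ⥤ EtModW.ModP Λ X}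
    (p : (Functor.const ℕᵒᵖ).obj F ⟶ Q)
    (h1 : ∀ n : ℕ, ARSys.IsQuot (I ^ (n + 1)) (p.app (op n)))
    (h2 : ∀ n : ℕ, ∃ E : EtModW.Mod Λ X, EtModW.IsConstructible Λ E ∧
      Nonempty ((EtModW.epsPullMod Λ X).obj E ≅ Q.obj (op n))) :
    ∃ G : PS (EtModW.Mod Λ X), IsAdic I G ∧
      (∀ n : ℕ, EtModW.IsConstructible Λ (G.obj (op n))) ∧
      Nonempty (G ⋙ EtModW.epsPullMod Λ X ≅ Q) := by
  obtain ⟨G, hG, ⟨e⟩⟩ := exists_tower (EtModW.epsPullMod Λ X) (EtModW.IsConstructible Λ) Q h2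
  refine ⟨G, isAdic_of_map (EtModW.epsPullMod Λ X) ?_, hG, ⟨e⟩⟩
  have hQ := isAdic_of_tower p h1
  refine ⟨fun n => killedBy_of_iso (e.symm.app (op n)) (hQ.1 n), fun n m hnm => ?_⟩
  exact isQuot_of_arrow_iso (hQ.2 n m hnm) (e.inv.app (op m)) (e.inv.app (op n))
    (e.inv.naturality _)

theorem exists_adic {F : EtModW.ModP Λ X} (hF : IsAdicP Λ I F) :
    ∃ G : PS (EtModW.Mod Λ X), IsAdic I G ∧
      (∀ n : ℕ, EtModW.IsConstructible Λ (G.obj (op n))) ∧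
      Nonempty (limit (G ⋙ EtModW.epsPullMod Λ X) ≅ F) := by
  obtain ⟨Q, p, h1, h2, h3⟩ := hF
  obtain ⟨G, h4, h5, ⟨e⟩⟩ := exists_adic_tower p h1 h2
  exact ⟨G, h4, h5, ⟨HasLimit.isoOfNatIso e ≪≫ (asIso (limit.lift Q (Cone.mk F p))).symm⟩⟩

/-- The statement of S14009: the projections are quotient maps. -/
def ProjQuot (Λ : Type (u + 1)) [CommRing Λ] (I : Ideal Λ) (X : Scheme.{u}) [ProEtS.EpsCont X] :
    Prop :=
  ∀ G : PS (EtModW.Mod Λ X), IsAdic I G → ∀ n : ℕ,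
    IsQuot (I ^ (n + 1)) (limit.π (G ⋙ EtModW.epsPullMod Λ X) (op n))

theorem isAdicP_lim (h9 : ProjQuot Λ I X) (G : PS (EtModW.Mod Λ X)) (hG : IsAdic I G)
    (hc : ∀ n : ℕ, EtModW.IsConstructible Λ (G.obj (op n))) :
    IsAdicP Λ I (limit (G ⋙ EtModW.epsPullMod Λ X)) := by
  refine ⟨G ⋙ EtModW.epsPullMod Λ X, (limit.cone (G ⋙ EtModW.epsPullMod Λ X)).π,
    fun n => h9 G hG n, fun n => ⟨_, hc n, ⟨Iso.refl _⟩⟩, ?_⟩
  rw [isIso_lift_iff]
  exact ⟨limit.isLimit _⟩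

theorem isAdicP_iff (h9 : ProjQuot Λ I X) (F : EtModW.ModP Λ X) :
    IsAdicP Λ I F ↔ ∃ G : PS (EtModW.Mod Λ X), IsAdic I G ∧
      (∀ n : ℕ, EtModW.IsConstructible Λ (G.obj (op n))) ∧
      Nonempty (limit (G ⋙ EtModW.epsPullMod Λ X) ≅ F) := by
  constructor
  · exact exists_adic
  · rintro ⟨G, h1, h2, ⟨e⟩⟩
    exact (isAdicP_lim h9 G h1 h2).of_iso e

end K337.AdicP
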