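import Groth.Agent.EtModW.K337.QuotWC
import Groth.Agent.EtModW.K337.AdicP
import Mathlib.RingTheory.AdicCompletion.Basic

/-!
# Complete pro-étale sheaves of modules and sections over weakly contractible objects
-/

set_option autoImplicit false
universe u v w v₁ v₂ u₁ u₂

open CategoryTheory CategoryTheory.Limits AlgebraicGeometry Opposite
open Groth.Agent.Sga5.IsQuotBasic ARSys K337.WCMod K337.QuotWC

namespace K337.CompleteP

variable {Λ : Type (u + 1)} [CommRing Λ] {I : Ideal Λ} {X : Scheme.{u}}

/-- Completeness of `M` with respect to its `I`-adic tower, on sections over weakly contractible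
objects. -/
theorem isIso_lift_iff_complete (hI : I.FG) {M : EtModW.ModP Λ X} {Q : ℕᵒᵖ ⥤ EtModW.ModP Λ X}
    (p : (Functor.const ℕᵒᵖ).obj M ⟶ Q)
    (hp : ∀ n : ℕ, IsQuot (I ^ (n + 1)) (p.app (op n))) :
    IsIso (limit.lift Q (Cone.mk M p)) ↔
      ∀ U : X.ProEt, ProEtS.IsWC U → IsAdicComplete I (M.obj.obj (op U)) := by
  have hs : ∀ (U : X.ProEt), ProEtS.IsWC U → ∀ n : ℕ,
      Function.Surjective ((p.app (op n)).hom.app (op U)).hom ∧
      LinearMap.ker ((p.app (op n)).hom.app (op U)).hom =
        I ^ (n + 1) • (⊤ : Submodule Λ (M.obj.obj (op U))) := fun U hU n =>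
    sections_of_isQuot (Ideal.FG.pow hI) (hp n) hU
  have hnat : ∀ (U : X.ProEt) (n m : ℕ) (h : n ≤ m) (x : M.obj.obj (op U)),
      (tr Q h).hom.app (op U) ((p.app (op m)).hom.app (op U) x) = (p.app (op n)).hom.app (op U) x := by
    intro U n m h x
    have := p.naturality (homOfLE h).op
    simp only [Functor.const_obj_obj, Functor.const_obj_map, Category.id_comp] at this
    exact congrArg (fun t => (t.hom.app (op U)).hom x) this.symm
  have hπ : ∀ (U : X.ProEt) (n : ℕ) (x : M.obj.obj (op U)),
      (limit.π Q (op n)).hom.app (op U) ((limit.lift Q (Cone.mk M p)).hom.app (op U) x) =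
        (p.app (op n)).hom.app (op U) x := by
    intro U n x
    exact congrArg (fun t => (t.hom.app (op U)).hom x) (limit.lift_π (Cone.mk M p) (op n))
  have hk : ∀ (U : X.ProEt), ProEtS.IsWC U → ∀ (n : ℕ) (x x' : M.obj.obj (op U)),
      (p.app (op n)).hom.app (op U) x = (p.app (op n)).hom.app (op U) x' ↔
        x - x' ∈ I ^ (n + 1) • (⊤ : Submodule Λ (M.obj.obj (op U))) := by
    intro U hU n x x'
    rw [← (hs U hU n).2, LinearMap.mem_ker, map_sub, sub_eq_zero]
  have hmono : ∀ (U : X.ProEt) {m n : ℕ} (_ : m ≤ n),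
      I ^ n • (⊤ : Submodule Λ (M.obj.obj (op U))) ≤ I ^ m • ⊤ := fun U m n h =>
    Submodule.smul_mono (Ideal.pow_le_pow_right h) le_rfl
  rw [isIso_iff_wc]
  constructor
  · intro h U hU
    obtain ⟨hinj, hsurj⟩ := h U hU
    have hH : IsHausdorff I (M.obj.obj (op U)) := by
      refine ⟨fun x hx => hinj ?_⟩
      rw [map_zero]
      apply lim_ext (limit.isLimit Q) U
      intro n
      refine (hπ U n x).trans ?_
      have h1 : (p.app (op n)).hom.app (op U) x = (p.app (op n)).hom.app (op U) 0 :=
        (hk U hU n x 0).2 (SModEq.sub_mem.1 (hx (n + 1)))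
      rw [h1, map_zero]
      exact (map_zero ((limit.π Q (op n)).hom.app (op U)).hom).symm
    have hP : IsPrecomplete I (M.obj.obj (op U)) := by
      refine ⟨fun s hs' => ?_⟩
      obtain ⟨z, hz, -⟩ := existsUnique_lim (limit.isLimit Q) U
        (fun n => (p.app (op n)).hom.app (op U) (s (n + 1))) (fun n m h => by
          rw [hnat U n m h, hk U hU]
          have := SModEq.sub_mem.1 (hs' (show n + 1 ≤ m + 1 by omega))
          rw [← Submodule.neg_mem_iff, neg_sub]
          exact this)
      obtain ⟨y, rfl⟩ := hsurj z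
      refine ⟨y, fun n => ?_⟩
      rw [SModEq.sub_mem]
      rcases n with _ | n
      · simp
      · rw [← hk U hU n, ← hπ U n y]
        exact (hz n).symm
    exact { toIsHausdorff := hH, toIsPrecomplete := hP }
  · intro h U hU
    have hc := h U hU
    constructor
    · intro x x' hxx
      have h1 : x - x' = 0 := by
        apply hc.toIsHausdorff.haus
        intro n
        rw [SModEq.sub_mem, sub_zero]
        apply hmono U (Nat.le_succ n)
        change x - x' ∈ I ^ (n + 1) • (⊤ : Submodule Λ (M.obj.obj (op U)))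
        rw [← hk U hU n, ← hπ U n, ← hπ U n, hxx]
      exact sub_eq_zero.1 h1
    · intro z
      choose s₀ hs₀ using fun n : ℕ => (hs U hU n).1 ((limit.π Q (op n)).hom.app (op U) z)
      let s : ℕ → M.obj.obj (op U) := s₀
      have hs' : ∀ n : ℕ, (p.app (op n)).hom.app (op U) (s n) =
        (limit.π Q (op n)).hom.app (op U) z := hs₀
      have hlim : ∀ (n m : ℕ) (h : n ≤ m),
          (tr Q h).hom.app (op U) ((limit.π Q (op m)).hom.app (op U) z) =
            (limit.π Q (op n)).hom.app (op U) z := fun n m h =>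
        congrArg (fun t => (t.hom.app (op U)).hom z) (limit.w Q (homOfLE h).op)
      have hd : ∀ {m n : ℕ} (_ : m ≤ n), s m - s n ∈
          I ^ (m + 1) • (⊤ : Submodule Λ (M.obj.obj (op U))) := by
        intro m n hmn
        rw [← hk U hU m, hs', ← hnat U m n hmn, hs', hlim]
      obtain ⟨y, hy⟩ := hc.toIsPrecomplete.prec (f := s) (fun {m n} hmn => by
        rw [SModEq.sub_mem]
        exact hmono U (Nat.le_succ m) (hd hmn))
      refine ⟨y, lim_ext (limit.isLimit Q) U fun n => ?_⟩
      refine (hπ U n y).trans ((?_ : _ = _).trans (hs' n))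
      rw [hk U hU]
      have h1 := SModEq.sub_mem.1 (hy (n + 1))
      have h2 := hd (Nat.le_succ n)
      have h3 : y - s n = -((s (n + 1) - y) + (s n - s (n + 1))) := by abel
      rw [h3]
      exact Submodule.neg_mem _ (Submodule.add_mem _ h1 h2)

end K337.CompleteP
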