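import Groth.Agent.EtModW.K337.ProEps
import Groth.Agent.Proet.Cont
import Mathlib.CategoryTheory.MorphismProperty.OverAdjunction

/-!
# Composition of inverse images on small pro-étale sites (sheaves of modules)
-/

set_option autoImplicit false
universe u v w v' w'

open CategoryTheory CategoryTheory.Limits AlgebraicGeometry Opposite

namespace K337.PullPComp

open K337.ProMod

variable (Λ : Type (u + 1)) [CommRing Λ]

set_option backward.isDefEq.respectTransparency.types false in
/-- Direct images compose. -/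
noncomputable def pushPComp {X Y Z : Scheme.{u}} (f : X ⟶ Y) (g : Z ⟶ X) [ProEtS.PCont f]
    [ProEtS.PCont g] [ProEtS.PCont (g ≫ f)] :
    pushM Λ g ⋙ pushM Λ f ≅ pushM Λ (g ≫ f) :=
  Functor.sheafPushforwardContinuousComp' (F := ProEtS.bcP f) (G := ProEtS.bcP g)
    (FG := ProEtS.bcP (g ≫ f))
    ((MorphismProperty.Over.pullbackComp (P := @WeaklyEtale) (Q := ⊤) g f).symm :
      ProEtS.bcP f ⋙ ProEtS.bcP g ≅ ProEtS.bcP (g ≫ f))
    (ModuleCat.{u + 1} Λ) (Scheme.ProEt.topology Y) (Scheme.ProEt.topology X)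
    (Scheme.ProEt.topology Z)

/-- Inverse images compose. -/
noncomputable def pullPComp {X Y Z : Scheme.{u}} (f : X ⟶ Y) (g : Y ⟶ Z) [ProEtS.PCont f]
    [ProEtS.PCont g] [ProEtS.PCont (f ≫ g)] :
    pullM Λ g ⋙ pullM Λ f ≅ pullM Λ (f ≫ g) :=
  Adjunction.leftAdjointUniq
    (((pullPushAdjM Λ g).comp (pullPushAdjM Λ f)).ofNatIsoRight (pushPComp Λ g f))
    (pullPushAdjM Λ (f ≫ g))

end K337.PullPComp
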