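import Groth.Agent.EtModW.K337.Lin
import Groth.Agent.Sga4h.LFinSupp

/-!
# Direct image along a closed immersion with retrocompact complement (sheaves of modules)

* `isZero_restr_push`, `isIso_unit_of_isZero`.
* `isQuot_pushM`: `i_*` preserves quotient maps modulo an ideal.
* `pushEpsClosed`: `eps⁻¹ i_* ≅ i_* eps⁻¹`.
-/

set_option autoImplicit false
universe u v w v₁ v₂ u₁ u₂

open CategoryTheory CategoryTheory.Limits AlgebraicGeometry Opposite
open Groth.Agent.Sga5.IsQuotBasic ARSys K337.ProMod K337.AdicP K337.Lin K337.ProEps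
open Groth.Agent

namespace K337.PushClosed

variable (Λ : Type (u + 1)) [CommRing Λ] {Z X : Scheme.{u}} (i : Z ⟶ X)

/-- The open complement of a closed immersion. -/
noncomputable def compl [IsClosedImmersion i] : X.Opens :=
  ⟨(Set.range i.base)ᶜ, i.isClosedEmbedding.isClosed_range.isOpen_compl⟩

theorem range_compl [IsClosedImmersion i] :
    Set.range (compl i).ι.base = (Set.range i.base)ᶜ := by
  rw [Scheme.Opens.range_ι]
  rfl

theorem quasiCompact_compl [IsClosedImmersion i] (h : IsRetrocompact (Set.range i.base)ᶜ) :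
    QuasiCompact (compl i).ι :=
  quasiCompact_iff_isSpectralMap.mpr (IsRetrocompact_iff_isSpectralMap_subtypeVal.mp h)

section general

variable {U : Scheme.{u}} (j : U ⟶ X) [IsOpenImmersion j] [WeaklyEtale j] [ProEtS.JPCont j]
  [ProEtS.PCont i]

/-- `j⁻¹ i_* = 0` for complementary `i`, `j`. -/
theorem isZero_restr_push (hc : Disjoint (Set.range j.base) (Set.range i.base))
    (F : EtModW.ModP Λ Z) : IsZero ((restrM Λ j).obj ((pushM Λ i).obj F)) := by
  rw [SiteAb2.isZero_iff]
  exact Proet.SuppZ2.isZero_restr_push j i hc ((abP Λ Z).obj F)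

variable [QuasiCompact j] [IsClosedImmersion i] {Λ}

/-- The unit `G ⟶ i_* i⁻¹ G` is an isomorphism if `j⁻¹ G = 0`. -/
theorem isIso_unit_of_isZero (hc : Set.range j.base = (Set.range i.base)ᶜ)
    (G : EtModW.ModP Λ X) (hG : IsZero ((restrM Λ j).obj G)) :
    IsIso ((pullPushAdjM Λ i).unit.app G) := by
  obtain ⟨h, hS⟩ := shortExact_open_closed Λ i j hc G
  have h1 : IsZero ((extZeroM Λ j).obj ((restrM Λ j).obj G)) := (extZeroM Λ j).map_isZero hG
  have h2 : IsIso (ShortComplex.mk _ _ h).g := hS.isIso_g_iff.2 h1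
  exact h2

/-- `i_*` preserves quotient maps modulo an ideal. -/
theorem isQuot_pushM [PreservesFiniteColimits (pushM Λ i)]
    (hc : Set.range j.base = (Set.range i.base)ᶜ) {I : Ideal Λ}
    {F Q : EtModW.ModP Λ Z} {p : F ⟶ Q} (hp : IsQuot I p) : IsQuot I ((pushM Λ i).map p) := by
  have hepi := isQuot_epi hp
  have hdis : Disjoint (Set.range j.base) (Set.range i.base) := by
    rw [hc]
    exact disjoint_compl_left
  rw [isQuot_iff_kernel]
  refine ⟨fun a ha => ?_, inferInstance, fun Y φ hφ => ?_⟩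
  · rw [← CategoryTheory.Functor.map_id, ← Functor.map_smul, hp.1 a ha, Functor.map_zero]
  · -- the image of `φ`
    let Y' := Abelian.image φ
    let e : (pushM Λ i).obj F ⟶ Y' := Abelian.factorThruImage φ
    have he : e ≫ Abelian.image.ι φ = φ := Abelian.image.fac φ
    have hke : HomKilledBy I e := homKilledBy_of_mono (Abelian.image.ι φ) (by rwa [he])
    have hY' : IsZero ((restrM Λ j).obj Y') := by
      have h0 : Epi ((restrM Λ j).map e) := inferInstance
      have h1 := isZero_restr_push Λ i j hdis F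
      rw [IsZero.iff_id_eq_zero, ← cancel_epi ((restrM Λ j).map e)]
      exact h1.eq_of_src _ _
    have hu := isIso_unit_of_isZero i j hc Y' hY'
    have hcc : ∀ F : EtModW.ModP Λ Z, IsIso ((pullPushAdjM Λ i).counit.app F) :=
      isIso_counit_closed Λ i
    have hcc' : IsIso (pullPushAdjM Λ i).counit := NatIso.isIso_of_isIso_app _
    let ff := (pullPushAdjM Λ i).fullyFaithfulROfIsIsoCounit
    let e' : F ⟶ (pullM Λ i).obj Y' := ff.preimage (e ≫ (pullPushAdjM Λ i).unit.app Y')
    have he' : (pushM Λ i).map e' = e ≫ (pullPushAdjM Λ i).unit.app Y' := ff.map_preimage _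
    have hke' : HomKilledBy I e' := by
      intro a ha
      apply ff.map_injective
      rw [Functor.map_smul, he', Functor.map_zero]
      exact homKilledBy_comp_right _ hke a ha
    have h1 : kernel.ι p ≫ e' = 0 := ((isQuot_iff_kernel p).1 hp).2.2 _ _ hke'
    have h2 : (pushM Λ i).map (kernel.ι p) ≫ e = 0 := by
      rw [← cancel_mono ((pullPushAdjM Λ i).unit.app Y'), Category.assoc, ← he',
        ← Functor.map_comp, h1, Functor.map_zero, zero_comp]
    have h3 : kernel.ι ((pushM Λ i).map p) =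
        (PreservesKernel.iso (pushM Λ i) p).inv ≫ (pushM Λ i).map (kernel.ι p) := by
      rw [PreservesKernel.iso_inv_ι]
    rw [h3, Category.assoc, ← he, reassoc_of% h2, zero_comp, comp_zero]

end general

section eps

variable {Λ}

/-- `j⁻¹ i_* E = 0` on the étale sites. -/
theorem isZero_pull_push_et {U : Scheme.{u}} (j : U ⟶ X) [IsClosedImmersion i]
    (hc : Disjoint (Set.range j.base) (Set.range i.base)) (E : EtModW.Mod Λ Z) :
    IsZero ((EtModW.pull Λ j).obj ((EtModW.push Λ i).obj E)) :=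
  (Sga4h.LFinSupp.zeroOff_push_range i E).isZero_pull j
    fun x hx => Set.disjoint_left.mp hc ⟨x, rfl⟩ hx

variable {U : Scheme.{u}} (j : U ⟶ X) [IsOpenImmersion j] [WeaklyEtale j] [ProEtS.JPCont j]
  [ProEtS.PCont i] [ProEtS.PCont j] [ProEtS.EpsCont Z] [ProEtS.EpsCont X] [ProEtS.EpsCont U]
  [QuasiCompact j] [IsClosedImmersion i]

/-- `eps⁻¹ i_* E ≅ i_* eps⁻¹ E`. -/
theorem pushEpsClosed (hc : Set.range j.base = (Set.range i.base)ᶜ) (E : EtModW.Mod Λ Z) :
    Nonempty ((EtModW.epsPullMod Λ X).obj ((EtModW.push Λ i).obj E) ≅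
      (pushM Λ i).obj ((EtModW.epsPullMod Λ Z).obj E)) := by
  have hdis : Disjoint (Set.range j.base) (Set.range i.base) := by
    rw [hc]
    exact disjoint_compl_left
  let G := (EtModW.epsPullMod Λ X).obj ((EtModW.push Λ i).obj E)
  have hz : IsZero ((restrM Λ j).obj G) := by
    have h1 : IsZero ((EtModW.epsPullMod Λ U).obj
        ((EtModW.pull Λ j).obj ((EtModW.push Λ i).obj E))) :=
      (EtModW.epsPullMod Λ U).map_isZero (isZero_pull_push_et i j hdis E)
    exact h1.of_iso (((pullRestrIso Λ j).symm.app G) ≪≫ (pullEps Λ j).symm.app _)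
  have h1 := isIso_unit_of_isZero i j hc G hz
  obtain ⟨h2, h3⟩ := Sga4h.LFinPull.full_faithful_closed (Λ := Λ) i
  have h4 : IsIso (Etcore.LPull.pullPushAdj (Λ := Λ) i).counit := inferInstance
  exact ⟨asIso ((pullPushAdjM Λ i).unit.app G) ≪≫
    (pushM Λ i).mapIso ((pullEps Λ i).symm.app _ ≪≫
      (EtModW.epsPullMod Λ Z).mapIso (asIso ((Etcore.LPull.pullPushAdj (Λ := Λ) i).counit.app E)))⟩

end eps

end K337.PushClosed
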