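import Groth.Agent.EtModW.K337.EssW
import Groth.Agent.EtModW.K337.PushClosed
import Groth.Agent.EtModW.K337.PullPComp
import Groth.Agent.Ega1.ReducedSub
import Groth.Prelude.Def_EtShriek2

/-!
# The essential image of `eps⁻¹` on sheaves of modules

* `Ess F`: `F` is isomorphic to some `eps⁻¹ E`;
* `ess_kernel`, `ess_cokernel`, `ess_X₂`, `ess_sigma`, `ess_pullM`, `ess_restrM`, `ess_extZeroM`;
* `ess_of_open_closed`: `F` is in the essential image if it is so on an open subscheme (with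
  quasi-compact inclusion) and on a closed complement.
-/

set_option autoImplicit false
universe u v w v₁ v₂ u₁ u₂

open CategoryTheory CategoryTheory.Limits AlgebraicGeometry Opposite
open K337.ProMod K337.ProEps K337.PullPComp K337.PushClosed Groth.Agent
open scoped ZeroObject

set_option linter.dupNamespace false

namespace K337.Ess

attribute [local instance] Proet.Cont.pCont Proet.Cont.jpCont Proet.Cont.epsCont

variable {Λ : Type (u + 1)} [CommRing Λ] {X : Scheme.{u}}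

/-- `F` is in the essential image of `eps⁻¹`. -/
def Ess (F : EtModW.ModP Λ X) : Prop :=
  ∃ E : EtModW.Mod Λ X, Nonempty ((EtModW.epsPullMod Λ X).obj E ≅ F)

theorem ess_of_iso {F G : EtModW.ModP Λ X} (e : F ≅ G) (h : Ess F) : Ess G := by
  obtain ⟨E, ⟨e'⟩⟩ := h
  exact ⟨E, ⟨e' ≪≫ e⟩⟩

theorem ess_eps (E : EtModW.Mod Λ X) : Ess ((EtModW.epsPullMod Λ X).obj E) := ⟨E, ⟨Iso.refl _⟩⟩

theorem ess_of_isZero {F : EtModW.ModP Λ X} (h : IsZero F) : Ess F :=
  ⟨0, ⟨((EtModW.epsPullMod Λ X).map_isZero (isZero_zero _)).iso h⟩⟩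

instance : WSerre.IsWeakSerre (⊤ : ObjectProperty (EtModW.Mod Λ X)) where
  exists_zero := ⟨0, isZero_zero _, trivial⟩
  kernels_le _ _ := trivial
  cokernels_le _ _ := trivial
  prop_X₂_of_shortExact _ _ _ := trivial

variable (Λ X) in
/-- The essential image of `eps⁻¹`, as a property of objects. -/
def essP : ObjectProperty (EtModW.ModP Λ X) := fun F =>
  ∃ E : EtModW.Mod Λ X, (⊤ : ObjectProperty (EtModW.Mod Λ X)) E ∧
    Nonempty ((EtModW.epsPullMod Λ X).obj E ≅ F)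

instance isWeakSerre_ess : WSerre.IsWeakSerre (essP Λ X) :=
  K337.EssW.isWeakSerre_essImage ⊤

theorem ess_iff {F : EtModW.ModP Λ X} : Ess F ↔ essP Λ X F :=
  ⟨fun ⟨E, h⟩ => ⟨E, trivial, h⟩, fun ⟨E, _, h⟩ => ⟨E, h⟩⟩

theorem ess_kernel {F G : EtModW.ModP Λ X} (φ : F ⟶ G) (hF : Ess F) (hG : Ess G) :
    Ess (kernel φ) := by
  rw [ess_iff] at *
  exact (essP Λ X).prop_kernel φ hF hG

theorem ess_cokernel {F G : EtModW.ModP Λ X} (φ : F ⟶ G) (hF : Ess F) (hG : Ess G) :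
    Ess (cokernel φ) := by
  rw [ess_iff] at *
  exact (essP Λ X).prop_cokernel φ hF hG

theorem ess_X₂ {S : ShortComplex (EtModW.ModP Λ X)} (hS : S.ShortExact) (h₁ : Ess S.X₁)
    (h₃ : Ess S.X₃) : Ess S.X₂ := by
  rw [ess_iff] at *
  exact (essP Λ X).prop_X₂_of_shortExact hS h₁ h₃

/-- The essential image is closed under coproducts. -/
theorem ess_sigma {ι : Type u} (F : ι → EtModW.ModP Λ X) (h : ∀ k, Ess (F k)) : Ess (∐ F) := by
  choose E hE using h
  let e : ∀ k, (EtModW.epsPullMod Λ X).obj (E k) ≅ F k := fun k => (hE k).some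
  exact ⟨∐ E, ⟨(PreservesCoproduct.iso (EtModW.epsPullMod Λ X) E) ≪≫ Sigma.mapIso e⟩⟩

section functors

variable {Y : Scheme.{u}}

theorem ess_pullM (f : Y ⟶ X) {F : EtModW.ModP Λ X} (h : Ess F) : Ess ((pullM Λ f).obj F) := by
  obtain ⟨E, ⟨e⟩⟩ := h
  exact ⟨(EtModW.pull Λ f).obj E, ⟨(pullEps Λ f).app E ≪≫ (pullM Λ f).mapIso e⟩⟩

theorem ess_restrM (j : Y ⟶ X) [IsOpenImmersion j] [WeaklyEtale j] {F : EtModW.ModP Λ X}
    (h : Ess F) : Ess ((restrM Λ j).obj F) :=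
  ess_of_iso ((pullRestrIso Λ j).app F) (ess_pullM j h)

theorem ess_extZeroM (j : Y ⟶ X) [hje : Etale j] [IsOpenImmersion j] [WeaklyEtale j]
    {F : EtModW.ModP Λ Y} (h : Ess F) : Ess ((extZeroM Λ j).obj F) := by
  obtain ⟨E, ⟨e⟩⟩ := h
  have : (MorphismProperty.Over.map (P := EtCoh.etaleMP.{u}) ⊤ (f := j) hje).IsContinuous
    Y.smallEtaleTopology X.smallEtaleTopology := inferInstanceAs (EtShriek.JCont j)
  have : ((MorphismProperty.Over.map (P := EtCoh.etaleMP.{u}) ⊤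
    (f := j) hje).sheafPushforwardContinuous (ModuleCat.{u + 1} Λ) Y.smallEtaleTopology
      X.smallEtaleTopology).IsRightAdjoint :=
    inferInstanceAs (((EtShriek.compEtale j).sheafPushforwardContinuous (ModuleCat.{u + 1} Λ)
      Y.smallEtaleTopology X.smallEtaleTopology).IsRightAdjoint)
  exact ⟨_, ⟨(extZeroEps Λ j).app E ≪≫ (extZeroM Λ j).mapIso e⟩⟩

theorem ess_pushM {Z U : Scheme.{u}} (i : Z ⟶ X) [IsClosedImmersion i] (j : U ⟶ X)
    [IsOpenImmersion j] [WeaklyEtale j] [QuasiCompact j]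
    (hc : Set.range j.base = (Set.range i.base)ᶜ) {F : EtModW.ModP Λ Z} (h : Ess F) :
    Ess ((pushM Λ i).obj F) := by
  obtain ⟨E, ⟨e⟩⟩ := h
  obtain ⟨e'⟩ := pushEpsClosed i j hc E
  exact ⟨_, ⟨e' ≪≫ (pushM Λ i).mapIso e⟩⟩

/-- Gluing of open and closed parts. -/
theorem ess_of_open_closed {Z U : Scheme.{u}} (i : Z ⟶ X) [IsClosedImmersion i] (j : U ⟶ X)
    [IsOpenImmersion j] [QuasiCompact j]
    (hc : Set.range j.base = (Set.range i.base)ᶜ) (F : EtModW.ModP Λ X)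
    (hU : Ess ((pullM Λ j).obj F)) (hZ : Ess ((pullM Λ i).obj F)) : Ess F := by
  obtain ⟨h, hS⟩ := shortExact_open_closed Λ i j hc F
  refine ess_X₂ hS ?_ ?_
  · exact ess_extZeroM j (ess_of_iso ((pullRestrIso Λ j).app F) hU)
  · exact ess_pushM i j hc hZ

end functors

/-- Sheaves on the empty scheme are zero. -/
theorem isZero_of_isEmpty [IsEmpty X] (F : EtModW.ModP Λ X) : IsZero F := by
  have h1 : IsZero ((restrM Λ (𝟙 X)).obj ((pushM Λ (𝟙 X)).obj F)) :=
    isZero_restr_push Λ (𝟙 X) (𝟙 X) (by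
      rw [Set.disjoint_left]
      intro x _
      exact (IsEmpty.false x).elim) F
  have h2 := isIso_counit_closed Λ (𝟙 X) F
  exact h1.of_iso ((asIso ((pullPushAdjM Λ (𝟙 X)).counit.app F)).symm ≪≫
    (pullRestrIso Λ (𝟙 X)).app _)

end K337.Ess
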