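import Groth.Agent.EtModW.K337.EssStrat2

/-!
# The essential image of `eps⁻¹` is local for open coverings
-/

set_option autoImplicit false
universe u v w v₁ v₂ u₁ u₂

open CategoryTheory CategoryTheory.Limits AlgebraicGeometry Opposite TopologicalSpace
open K337.ProMod K337.ProEps K337.PullPComp K337.PushClosed Groth.Agent
open scoped ZeroObject

namespace K337.Ess

attribute [local instance] Proet.Cont.pCont Proet.Cont.jpCont Proet.Cont.epsCont

variable {Λ : Type (u + 1)} [CommRing Λ] {X : Scheme.{u}}

set_option backward.isDefEq.respectTransparency.types false in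
/-- The base changes of an object of the pro-étale site along an open covering form a covering. -/
theorem cover_mem {ι : Type u} (W : ι → X.Opens) (hW : ∀ x : X, ∃ k, x ∈ W k) (V : X.ProEt) :
    Sieve.ofArrows (fun k => (ProEtS.compP (W k).ι).obj ((ProEtS.bcP (W k).ι).obj V))
      (fun k => (Proet.RestrPush.compBcAdj (W k).ι).counit.app V) ∈ Scheme.ProEt.topology X V := by
  apply Precoverage.generate_mem_toGrothendieck
  have h : Presieve.ofArrows (fun k => (ProEtS.compP (W k).ι).obj ((ProEtS.bcP (W k).ι).obj V))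
      (fun k => (Proet.RestrPush.compBcAdj (W k).ι).counit.app V) ∈
        (Scheme.ProEt.precoverage X).coverings V := by
    rw [Proet.Cont.ofArrows_mem_precoverage_iff]
    apply Scheme.etalePrecoverage_le_proetalePrecoverage
    rw [Scheme.etalePrecoverage, Scheme.ofArrows_mem_precoverage_iff]
    refine ⟨fun v => ?_, fun k => ?_⟩
    · obtain ⟨k, hk⟩ := hW (V.hom v)
      obtain ⟨w, hw, -⟩ := Scheme.Pullback.exists_preimage_pullback (f := V.hom) (g := (W k).ι) v
        ⟨V.hom v, hk⟩ rfl
      exact ⟨k, w, hw⟩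
    · have : IsOpenImmersion (pullback.fst V.hom (W k).ι) := inferInstance
      have : Etale (pullback.fst V.hom (W k).ι) := inferInstance
      exact this
  exact h

/-- Vanishing of morphisms is local for open coverings. -/
theorem hom_eq_zero_of_cover {ι : Type u} (W : ι → X.Opens) (hW : ∀ x : X, ∃ k, x ∈ W k)
    {F G : EtModW.ModP Λ X} (g : F ⟶ G) (h : ∀ k, (restrM Λ (W k).ι).map g = 0) : g = 0 := by
  have key : ∀ (V : X.ProEt) (s : F.obj.obj (op V)), g.hom.app (op V) s = 0 := by
    intro V s
    refine ((abP Λ X).obj G).isSeparated V _ (cover_mem W hW V) (g.hom.app (op V) s) 0 ?_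
    rintro T f ⟨Y, a, b, ⟨k⟩, rfl⟩
    have h1 : ((Proet.RestrPush.compBcAdj (W k).ι).counit.app V) =
      ((Proet.RestrPush.compBcAdj (W k).ι).counit.app V) := rfl
    set e := (Proet.RestrPush.compBcAdj (W k).ι).counit.app V with he
    have h2 : G.obj.map e.op (g.hom.app (op V) s) = 0 := by
      have h3 : g.hom.app _ (F.obj.map e.op s) = G.obj.map e.op (g.hom.app (op V) s) :=
        ConcreteCategory.congr_hom (g.hom.naturality e.op) s
      have h4 : g.hom.app (op ((ProEtS.compP (W k).ι).obj ((ProEtS.bcP (W k).ι).obj V)))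
          (F.obj.map e.op s) = 0 :=
        congrArg (fun t => (t.hom.app (op ((ProEtS.bcP (W k).ι).obj V))).hom
          (F.obj.map e.op s)) (h k)
      exact h3.symm.trans h4
    have h5 : G.obj.map (a ≫ e).op (g.hom.app (op V) s) =
        G.obj.map a.op (G.obj.map e.op (g.hom.app (op V) s)) :=
      ConcreteCategory.congr_hom (G.obj.map_comp e.op a.op) _
    have h6 : G.obj.map (a ≫ e).op (g.hom.app (op V) s) = 0 := by
      rw [h5, h2, map_zero]
    exact h6.trans (map_zero (G.obj.map (a ≫ e).op).hom).symm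
  apply Sheaf.hom_ext
  apply NatTrans.ext
  funext V
  ext s
  exact key V.unop s

/-- The sum of the extensions by zero of the restrictions of a sheaf to an open covering maps
onto it. -/
theorem epi_sigma {ι : Type u} (W : ι → X.Opens) (hW : ∀ x : X, ∃ k, x ∈ W k)
    (F : EtModW.ModP Λ X) :
    Epi (Sigma.desc (fun k => (extZeroAdjM Λ (W k).ι).counit.app F)) := by
  refine Preadditive.epi_of_cancel_zero _ fun {G} g hg => hom_eq_zero_of_cover W hW g fun k => ?_
  have h1 : (extZeroAdjM Λ (W k).ι).counit.app F ≫ g = 0 := by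
    have := congrArg (fun t => Sigma.ι _ k ≫ t) hg
    simpa using this
  have h2 := (extZeroAdjM Λ (W k).ι).homEquiv_unit (f := (extZeroAdjM Λ (W k).ι).counit.app F ≫ g)
  rw [Functor.map_comp, Adjunction.right_triangle_components_assoc, h1] at h2
  rw [← h2, Adjunction.homEquiv_unit, Functor.map_zero, comp_zero]

/-- The essential image of `eps⁻¹` is local for open coverings. -/
theorem ess_of_cover {ι : Type u} (W : ι → X.Opens) (hW : ∀ x : X, ∃ k, x ∈ W k)
    (F : EtModW.ModP Λ X) (h : ∀ k, Ess ((pullM Λ (W k).ι).obj F)) : Ess F := by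
  have h' : ∀ k, Ess ((restrM Λ (W k).ι).obj F) := fun k =>
    ess_of_iso ((pullRestrIso Λ (W k).ι).app F) (h k)
  let π := Sigma.desc (fun k => (extZeroAdjM Λ (W k).ι).counit.app F)
  have hπ : Epi π := epi_sigma W hW F
  have hA : Ess (∐ fun k => (extZeroM Λ (W k).ι).obj ((restrM Λ (W k).ι).obj F)) :=
    ess_sigma _ fun k => ess_extZeroM _ (h' k)
  have hK : ∀ k, Ess ((restrM Λ (W k).ι).obj (kernel π)) := fun k =>
    ess_of_iso (PreservesKernel.iso (restrM Λ (W k).ι) π).symm
      (ess_kernel _ (ess_restrM _ hA) (h' k))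
  let ρ := Sigma.desc (fun k => (extZeroAdjM Λ (W k).ι).counit.app (kernel π))
  have hρ : Epi ρ := epi_sigma W hW (kernel π)
  have hB : Ess (∐ fun k => (extZeroM Λ (W k).ι).obj ((restrM Λ (W k).ι).obj (kernel π))) :=
    ess_sigma _ fun k => ess_extZeroM _ (hK k)
  have e1 : cokernel (kernel.ι π) ≅ F :=
    (cokernelIsCokernel (kernel.ι π)).coconePointUniqueUpToIso
      (Abelian.epiIsCokernelOfKernel (KernelFork.ofι (kernel.ι π) (kernel.condition π))
        (kernelIsKernel π))
  exact ess_of_iso (cokernelEpiComp ρ (kernel.ι π) ≪≫ e1) (ess_cokernel (ρ ≫ kernel.ι π) hB hA)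

end K337.Ess
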