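import Groth.Agent.EtModW.K337.Ess
import Groth.Agent.Etrest.PO

/-!
# The essential image of `eps⁻¹` and stratifications
-/

set_option autoImplicit false
universe u v w v₁ v₂ u₁ u₂

open CategoryTheory CategoryTheory.Limits AlgebraicGeometry Opposite TopologicalSpace
open K337.ProMod K337.ProEps K337.PullPComp K337.PushClosed Groth.Agent
open scoped ZeroObject

namespace K337.Ess

attribute [local instance] Proet.Cont.pCont Proet.Cont.jpCont Proet.Cont.epsCont

variable {Λ : Type (u + 1)} [CommRing Λ]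

/-- The reduced closed complement of an open subscheme. -/
theorem exists_reduced_compl {X : Scheme.{u}} (W : X.Opens) :
    ∃ (Z : Scheme.{u}) (i : Z ⟶ X), IsReduced Z ∧ IsClosedImmersion i ∧
      Set.range i.base = (W : Set X)ᶜ := by
  have hc : IsClosed ((W : Set X)ᶜ) := W.isOpen.isClosed_compl
  refine ⟨_, (Scheme.IdealSheafData.vanishingIdeal ⟨(W : Set X)ᶜ, hc⟩).subschemeι,
    Ega1.ReducedSub.isReduced_subscheme_vanishingIdeal _, inferInstance, ?_⟩
  exact Etrest.PO.range_vanishingIdeal_subschemeι _ hc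

theorem quasiCompact_preimage {X Y : Scheme.{u}} (f : Y ⟶ X) (W : X.Opens) [QuasiCompact W.ι] :
    QuasiCompact (f ⁻¹ᵁ W).ι :=
  MorphismProperty.of_isPullback (P := @QuasiCompact) (isPullback_morphismRestrict f W) inferInstance

theorem preimage_eq_top_of_range_subset {X Y : Scheme.{u}} (f : Y ⟶ X) (W : X.Opens)
    (h : Set.range f.base ⊆ W) : f ⁻¹ᵁ W = ⊤ := by
  ext y
  simp only [Opens.coe_top, Set.mem_univ, iff_true]
  exact h ⟨y, rfl⟩

theorem preimage_eq_bot_of_range_subset {X Y : Scheme.{u}} (f : Y ⟶ X) (W : X.Opens)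
    (h : Set.range f.base ⊆ (W : Set X)ᶜ) : f ⁻¹ᵁ W = ⊥ := by
  ext y
  simp only [Opens.coe_bot, Set.mem_empty_iff_false, iff_false]
  exact h ⟨y, rfl⟩

/-- Dévissage along a finite list of opens. -/
theorem ess_of_list (n : ℕ) : ∀ {X : Scheme.{u}} (L : List X.Opens) (_ : L.length = n)
    (_ : ∀ W ∈ L, QuasiCompact W.ι) (F : EtModW.ModP Λ X)
    (_ : ∀ (T : Scheme.{u}) [IsReduced T] (h : T ⟶ X) [IsImmersion h],
      (∀ W ∈ L, h ⁻¹ᵁ W = ⊤ ∨ h ⁻¹ᵁ W = ⊥) → Ess ((pullM Λ h).obj F)), Ess F := by
  induction n with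
  | zero =>
    intro X L hL _ F H
    rw [List.length_eq_zero_iff] at hL
    subst hL
    obtain ⟨Z, i, _, _, hi⟩ := exists_reduced_compl (⊥ : X.Opens)
    have hc : Set.range (⊥ : X.Opens).ι.base = (Set.range i.base)ᶜ := by
      rw [hi, compl_compl, Scheme.Opens.range_ι]
    have hemp : IsEmpty ↥((⊥ : X.Opens) : Scheme.{u}) := ⟨fun x => x.2⟩
    have hqc : QuasiCompact (⊥ : X.Opens).ι := ⟨fun U _ _ => (Set.toFinite _).isCompact⟩
    exact ess_of_open_closed i (⊥ : X.Opens).ι hc F (ess_of_isZero (isZero_of_isEmpty _))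
      (H Z i (by simp))
  | succ n ih =>
    intro X L hL hqc F H
    obtain ⟨W, L', rfl⟩ := List.exists_cons_of_length_eq_add_one hL
    have hW : QuasiCompact W.ι := hqc W (by simp)
    obtain ⟨Z, i, _, _, hi⟩ := exists_reduced_compl W
    have hc : Set.range W.ι.base = (Set.range i.base)ᶜ := by
      rw [hi, compl_compl, Scheme.Opens.range_ι]
    -- the general step
    have step : ∀ {Y : Scheme.{u}} (f : Y ⟶ X) [IsImmersion f],
        (f ⁻¹ᵁ W = ⊤ ∨ f ⁻¹ᵁ W = ⊥) → Ess ((pullM Λ f).obj F) := by
      intro Y f _ hf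
      refine ih (L'.map (fun V => f ⁻¹ᵁ V)) (by simpa using hL) ?_ _ ?_
      · intro V hV
        obtain ⟨V', hV', rfl⟩ := List.mem_map.1 hV
        have := hqc V' (by simp [hV'])
        exact quasiCompact_preimage f V'
      · intro T _ h _ hh
        refine ess_of_iso ((pullPComp Λ h f).symm.app F) (H T (h ≫ f) ?_)
        intro V hV
        rcases List.mem_cons.1 hV with rfl | hV
        · rw [Scheme.Hom.comp_preimage]
          rcases hf with hf | hf
          · left
            rw [hf]
            rfl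
          · right
            rw [hf]
            rfl
        · rw [Scheme.Hom.comp_preimage]
          exact hh _ (List.mem_map.2 ⟨V, hV, rfl⟩)
    refine ess_of_open_closed i W.ι hc F (step W.ι (Or.inl ?_)) (step i (Or.inr ?_))
    · apply preimage_eq_top_of_range_subset
      rw [Scheme.Opens.range_ι]
    · apply preimage_eq_bot_of_range_subset
      rw [hi]

/-- An immersion from a reduced scheme with image in that of an immersion `g` factors through
`g`. -/
theorem exists_lift {T S X : Scheme.{u}} [IsReduced T] (h : T ⟶ X) (g : S ⟶ X) [IsImmersion g]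
    (hr : Set.range h.base ⊆ Set.range g.base) : ∃ l : T ⟶ S, l ≫ g = h := by
  have hs : Surjective (pullback.snd g h) := by
    refine ⟨fun t => ?_⟩
    obtain ⟨s, hs⟩ := hr ⟨t, rfl⟩
    obtain ⟨p, -, hp⟩ := Scheme.Pullback.exists_preimage_pullback s t hs
    exact ⟨p, hp⟩
  have him : IsImmersion (pullback.snd g h) := inferInstance
  have hc : IsClosedImmersion (pullback.snd g h) := by
    refine IsClosedImmersion.of_isPreimmersion _ ?_
    rw [Set.range_eq_univ.2 hs.surj]
    exact isClosed_univ
  have : IsIso (pullback.snd g h) := isIso_of_isClosedImmersion_of_surjective _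
  refine ⟨inv (pullback.snd g h) ≫ pullback.fst g h, ?_⟩
  rw [Category.assoc, pullback.condition, IsIso.inv_hom_id_assoc]

end K337.Ess
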