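import Groth.Agent.EtModW.K337.EssStrat
import Groth.Agent.FibDim.K582.Retro

/-!
# The essential image of `eps⁻¹` and finite constructible stratifications
-/

set_option autoImplicit false
universe u v w v₁ v₂ u₁ u₂

open CategoryTheory CategoryTheory.Limits AlgebraicGeometry Opposite TopologicalSpace
open K337.ProMod K337.ProEps K337.PullPComp K337.PushClosed Groth.Agent
open scoped ZeroObject

namespace K337.Ess

attribute [local instance] Proet.Cont.pCont Proet.Cont.jpCont Proet.Cont.epsCont

/-- A locally closed constructible subset of a quasi-compact quasi-separated scheme is a difference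
of two quasi-compact opens. -/
theorem exists_opens {X : Scheme.{u}} [CompactSpace X] [QuasiSeparatedSpace X] {S : Set X}
    (h1 : IsLocallyClosed S) (h2 : Topology.IsConstructible S) :
    ∃ V V' : X.Opens, IsCompact (V : Set X) ∧ IsCompact (V' : Set X) ∧
      S = (V : Set X) \ (V' : Set X) := by
  obtain ⟨O, C, hO, hC, rfl⟩ := h1
  have hcomp := K582.Retro.isCompact_of_isConstructible h2
  obtain ⟨W, hWc, hWo, hKW, hWU⟩ :=
    PrespectralSpace.exists_isCompact_and_isOpen_between hcomp hO Set.inter_subset_left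
  have e1 : W \ (O ∩ C) = W ∩ Cᶜ := by
    ext x
    constructor
    · rintro ⟨hx, hx'⟩
      exact ⟨hx, fun hc => hx' ⟨hWU hx, hc⟩⟩
    · rintro ⟨hx, hx'⟩
      exact ⟨hx, fun hc => hx' hc.2⟩
  have ho : IsOpen (W \ (O ∩ C)) := by
    rw [e1]
    exact hWo.inter hC.isOpen_compl
  have hc : IsCompact (W \ (O ∩ C)) :=
    K582.Retro.isCompact_of_isConstructible ((hWc.isConstructible hWo).sdiff h2)
  refine ⟨⟨W, hWo⟩, ⟨W \ (O ∩ C), ho⟩, hWc, hc, ?_⟩
  change O ∩ C = W \ (W \ (O ∩ C))
  rw [Set.sdiff_sdiff_cancel_left hKW]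

variable {Λ : Type (u + 1)} [CommRing Λ]

theorem quasiCompact_ι {X : Scheme.{u}} [QuasiSeparatedSpace X] (W : X.Opens)
    (h : IsCompact (W : Set X)) : QuasiCompact W.ι := by
  have : CompactSpace ↥(W : Scheme.{u}) := isCompact_iff_compactSpace.mp h
  exact quasiCompact_of_compactSpace W.ι

/-- A sheaf of modules on the pro-étale site of a quasi-compact quasi-separated scheme is in the
essential image of `eps⁻¹` as soon as its restrictions to the strata of a finite constructible
stratification are. -/
theorem ess_of_strata {X : Scheme.{u}} [CompactSpace X] [QuasiSeparatedSpace X] {m : ℕ}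
    (T : Fin m → Scheme.{u}) (g : ∀ i, T i ⟶ X) (himm : ∀ i, IsImmersion (g i))
    (hcons : ∀ i, Topology.IsConstructible (Set.range (g i).base))
    (hcov : (⋃ i, Set.range (g i).base) = Set.univ) (F : EtModW.ModP Λ X)
    (hF : ∀ i, Ess ((pullM Λ (g i)).obj F)) : Ess F := by
  choose V V' hV hV' hVV' using fun i => exists_opens
    (himm i).isLocallyClosed_range (hcons i)
  let L : List X.Opens := (List.ofFn V) ++ (List.ofFn V')
  refine ess_of_list L.length L rfl ?_ F ?_
  · intro W hW
    rcases List.mem_append.1 hW with hW | hW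
    · obtain ⟨i, rfl⟩ := (List.mem_ofFn' _ _).1 hW
      exact quasiCompact_ι _ (hV i)
    · obtain ⟨i, rfl⟩ := (List.mem_ofFn' _ _).1 hW
      exact quasiCompact_ι _ (hV' i)
  · intro S _ h _ hh
    rcases isEmpty_or_nonempty S with hS | ⟨⟨s⟩⟩
    · exact ess_of_isZero (isZero_of_isEmpty _)
    · obtain ⟨i, hi⟩ := Set.mem_iUnion.1 (show h.base s ∈ ⋃ i, Set.range (g i).base by
        rw [hcov]; trivial)
      rw [hVV' i] at hi
      have h1 : h ⁻¹ᵁ V i = ⊤ := by
        rcases hh (V i) (List.mem_append_left _ ((List.mem_ofFn' _ _).2 ⟨i, rfl⟩)) with h1 | h1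
        · exact h1
        · have : s ∈ h ⁻¹ᵁ V i := hi.1
          rw [h1] at this
          exact this.elim
      have h2 : h ⁻¹ᵁ V' i = ⊥ := by
        rcases hh (V' i) (List.mem_append_right _ ((List.mem_ofFn' _ _).2 ⟨i, rfl⟩)) with h1 | h1
        · have : s ∈ h ⁻¹ᵁ V' i := by rw [h1]; trivial
          exact (hi.2 this).elim
        · exact h1
      have := himm i
      obtain ⟨l, rfl⟩ := exists_lift h (g i) (by
        rintro _ ⟨t, rfl⟩
        rw [hVV' i]
        constructor
        · have : t ∈ h ⁻¹ᵁ V i := by rw [h1]; trivial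
          exact this
        · intro h3
          have : t ∈ h ⁻¹ᵁ V' i := h3
          rw [h2] at this
          exact this)
      exact ess_of_iso ((pullPComp Λ l (g i)).app F) (ess_pullM l (hF i))

end K337.Ess
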