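import Groth.Agent.EtModW.K337.ProMod
import Groth.Agent.ProEtS.K371.EssSerre
import Groth.Agent.S0718
import Groth.Agent.EtpbcB.RDerLES
import Groth.Agent.Sga4h.Dbc323

/-!
# The essential image of a weak Serre subcategory under `eps⁻¹` (sheaves of modules)
-/

set_option autoImplicit false
universe u v w v₁ v₂ u₁ u₂

open CategoryTheory CategoryTheory.Limits AlgebraicGeometry Opposite
open K337.ProMod K337.SiteAb K337.SiteAb2

namespace K337.EssW

variable {Λ : Type (u + 1)} [CommRing Λ] {X : Scheme.{u}} [ProEtS.EpsCont X]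

/-- `eps_*` is exact at the right end of a short exact sequence starting with some `eps⁻¹ G`. -/
theorem epi_push (T : ShortComplex (EtModW.ModP Λ X)) (hT : T.ShortExact)
    (h : ∃ G, Nonempty ((EtModW.epsPullMod Λ X).obj G ≅ T.X₁)) : Epi ((epsPushM Λ X).map T.g) := by
  obtain ⟨G, ⟨e⟩⟩ := h
  rw [epi_iff]
  have h1 : (T.map (abP Λ X)).ShortExact := (shortExact_iff T).1 hT
  have : PreservesLimits (ProEtS.epsPush X) := (ProEtS.epsAdj X).rightAdjoint_preservesLimits
  let e' : (ProEtS.epsPull X).obj ((ab Λ X.smallEtaleTopology).obj G) ≅ (T.map (abP Λ X)).X₁ :=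
    (pullIso Λ X.smallEtaleTopology (ProEtS.eps X) (Scheme.ProEt.topology X)).symm.app G ≪≫
      (abP Λ X).mapIso e
  have h2 := Groth.Agent.EtpbcB.RDerLES.epi_map_g (ProEtS.epsPush X) h1
    ((Groth.Agent.S0718.result X _ 1 one_pos).of_iso
      (((ProEtS.epsPush X).rightDerived 1).mapIso e'.symm))
  exact h2

/-- The essential image under `eps⁻¹` of a weak Serre subcategory is weak Serre. -/
theorem isWeakSerre_essImage (S : ObjectProperty (EtModW.Mod Λ X)) [WSerre.IsWeakSerre S] :
    WSerre.IsWeakSerre (fun F : EtModW.ModP Λ X =>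
      ∃ G : EtModW.Mod Λ X, S G ∧ Nonempty ((EtModW.epsPullMod Λ X).obj G ≅ F)) :=
  K371.EssSerre.isWeakSerre_essImage (EtModW.epsPullMod Λ X) (epsPushM Λ X) (epsAdjM Λ X)
    (fun _ => inferInstance) epi_push S

instance [IsNoetherianRing Λ] : WSerre.IsWeakSerre (Groth.Agent.Sga4h.Dbc323.consM Λ X) where

variable (Λ X) in
/-- Constructible pro-étale sheaves of modules form a weak Serre subcategory. -/
theorem isWeakSerre_consP [IsNoetherianRing Λ] :
    WSerre.IsWeakSerre (fun F : EtModW.ModP Λ X =>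
      ∃ E : EtModW.Mod Λ X, EtModW.IsConstructible Λ E ∧
        Nonempty ((EtModW.epsPullMod Λ X).obj E ≅ F)) :=
  isWeakSerre_essImage (Groth.Agent.Sga4h.Dbc323.consM Λ X)

end K337.EssW
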