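import Mathlib.RingTheory.AdicCompletion.Basic
import Mathlib.Algebra.Exact.Basic

/-!
# Extensions of `a`-adically complete modules

`isAdicComplete_of_exact`: in a short exact sequence `0 → M₁ → M₂ → M₃ → 0` with `M₁` and `M₃`
`a`-adically complete and `M₃` with bounded `a`-power torsion, `M₂` is `a`-adically complete.
-/

set_option autoImplicit false
universe u v

namespace K337.ExtComplete

variable {A : Type u} [CommRing A] {a : A}

theorem mem_iff {M : Type*} [AddCommGroup M] [Module A M] (k : ℕ) (x : M) :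
    x ∈ ((Ideal.span {a}) ^ k • ⊤ : Submodule A M) ↔ ∃ y, a ^ k • y = x := by
  rw [Ideal.span_singleton_pow, Submodule.ideal_span_singleton_smul,
    Submodule.mem_smul_pointwise_iff_exists]
  simp

theorem smodEq_iff {M : Type*} [AddCommGroup M] [Module A M] (k : ℕ) (x x' : M) :
    x ≡ x' [SMOD ((Ideal.span {a}) ^ k • ⊤ : Submodule A M)] ↔ ∃ y, a ^ k • y = x - x' := by
  rw [SModEq.sub_mem, mem_iff]

variable {M₁ M₂ M₃ : Type*} [AddCommGroup M₁] [Module A M₁] [AddCommGroup M₂] [Module A M₂]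
  [AddCommGroup M₃] [Module A M₃] (f : M₁ →ₗ[A] M₂) (g : M₂ →ₗ[A] M₃)

theorem isAdicComplete_of_exact (hf : Function.Injective f) (hg : Function.Surjective g)
    (hex : Function.Exact f g) (c : ℕ) (hc : ∀ (k : ℕ) (z : M₃), a ^ k • z = 0 → a ^ c • z = 0)
    (h₁ : IsAdicComplete (Ideal.span {a}) M₁) (h₃ : IsAdicComplete (Ideal.span {a}) M₃) :
    IsAdicComplete (Ideal.span {a}) M₂ := by
  have key : ∀ (n : ℕ) (y : M₂) (w : M₁), f w = a ^ (n + c) • y → ∃ v, w = a ^ n • v := by
    intro n y w hw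
    have h1 : a ^ (n + c) • g y = 0 := by
      rw [← map_smul, ← hw]
      exact hex.apply_apply_eq_zero w
    have h2 : g (a ^ c • y) = 0 := by
      rw [map_smul]
      exact hc _ _ h1
    obtain ⟨v, hv⟩ := (hex _).1 h2
    refine ⟨v, hf ?_⟩
    rw [hw, map_smul, hv, smul_smul, pow_add]
  have hH : IsHausdorff (Ideal.span {a}) M₂ := by
    refine ⟨fun x hx => ?_⟩
    have h1 : ∀ n, ∃ y, a ^ n • y = x := fun n => by
      obtain ⟨y, hy⟩ := (smodEq_iff n x 0).1 (hx n)
      exact ⟨y, by rw [hy, sub_zero]⟩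
    have h2 : g x = 0 := by
      apply h₃.toIsHausdorff.haus
      intro n
      obtain ⟨y, hy⟩ := h1 n
      rw [smodEq_iff]
      exact ⟨g y, by rw [← map_smul, hy, sub_zero]⟩
    obtain ⟨w, rfl⟩ := (hex _).1 h2
    have h3 : w = 0 := by
      apply h₁.toIsHausdorff.haus
      intro n
      obtain ⟨y, hy⟩ := h1 (n + c)
      obtain ⟨v, hv⟩ := key n y w hy.symm
      rw [smodEq_iff]
      exact ⟨v, by rw [← hv, sub_zero]⟩
    rw [h3, map_zero]
  have hP : IsPrecomplete (Ideal.span {a}) M₂ := by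
    refine ⟨fun s hs => ?_⟩
    obtain ⟨z, hz⟩ := h₃.toIsPrecomplete.prec (f := fun n => g (s n)) (fun {m n} hmn => by
      obtain ⟨y, hy⟩ := (smodEq_iff m _ _).1 (hs hmn)
      rw [smodEq_iff]
      exact ⟨g y, by rw [← map_smul, hy, map_sub]⟩)
    obtain ⟨y, rfl⟩ := hg z
    have h1 : ∀ n, ∃ (y' : M₂) (w : M₁), s n - y - a ^ n • y' = f w := by
      intro n
      obtain ⟨z', hz'⟩ := (smodEq_iff n _ _).1 (hz n)
      obtain ⟨y', rfl⟩ := hg z'
      have h2 : g (s n - y - a ^ n • y') = 0 := by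
        rw [map_sub, map_sub, map_smul, hz', sub_self]
      obtain ⟨w, hw⟩ := (hex _).1 h2
      exact ⟨y', w, hw.symm⟩
    choose y' w hw using h1
    obtain ⟨w', hw'⟩ := h₁.toIsPrecomplete.prec (f := fun n => w (n + c)) (fun {m n} hmn => by
      obtain ⟨t, ht⟩ := (smodEq_iff (m + c) _ _).1 (hs (show m + c ≤ n + c by omega))
      have h2 : f (w (m + c) - w (n + c)) =
          a ^ (m + c) • (t - y' (m + c) + a ^ (n - m) • y' (n + c)) := by
        rw [map_sub, ← hw, ← hw, smul_add, smul_sub, ht, smul_smul, ← pow_add,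
          show m + c + (n - m) = n + c by omega]
        abel
      obtain ⟨v, hv⟩ := key m _ _ h2
      rw [smodEq_iff]
      exact ⟨v, hv.symm⟩)
    refine ⟨y + f w', fun n => ?_⟩
    obtain ⟨t, ht⟩ := (smodEq_iff n _ _).1 (hs (show n ≤ n + c by omega))
    obtain ⟨v, hv⟩ := (smodEq_iff n _ _).1 (hw' n)
    rw [smodEq_iff]
    refine ⟨t + a ^ c • y' (n + c) + f v, ?_⟩
    have h2 := hw (n + c)
    rw [smul_add, smul_add, ht, ← map_smul, hv, map_sub, ← h2, smul_smul, ← pow_add]
    abel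
  exact { toIsHausdorff := hH, toIsPrecomplete := hP }

end K337.ExtComplete
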