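import Mathlib.CategoryTheory.Subobject.NoetherianObject
import Mathlib.CategoryTheory.Functor.EpiMono

/-!
# Chains of subobjects along a fully faithful functor

`chain_stable`: if `Ψ : 𝒜 ⥤ 𝒟` is full and faithful, `Y` is a Noetherian object of `𝒜` and
`F ≅ Ψ Y`, then an increasing chain of subobjects of `F` with all terms in the image of `Ψ` is
stationary.
-/

set_option autoImplicit false
universe v₁ v₂ u₁ u₂

open CategoryTheory CategoryTheory.Limits

namespace K337.FFNoeth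

variable {𝒜 : Type u₁} [Category.{v₁} 𝒜] {𝒟 : Type u₂} [Category.{v₂} 𝒟] (Ψ : 𝒜 ⥤ 𝒟) [Ψ.Full]
  [Ψ.Faithful]

theorem chain_stable {Y : 𝒜} [IsNoetherianObject Y] {F : 𝒟} (e : Ψ.obj Y ≅ F)
    (Z : ℕ →o Subobject F) (hZ : ∀ k : ℕ, ∃ H : 𝒜, Nonempty (Ψ.obj H ≅ (Z k : 𝒟))) :
    ∃ k₀ : ℕ, ∀ k : ℕ, k₀ ≤ k → Z k = Z k₀ := by
  choose H hH using hZ
  let i : ∀ k, Ψ.obj (H k) ≅ (Z k : 𝒟) := fun k => (hH k).some
  let m : ∀ k, H k ⟶ Y := fun k => Ψ.preimage ((i k).hom ≫ (Z k).arrow ≫ e.inv)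
  have hm : ∀ k, Ψ.map (m k) = (i k).hom ≫ (Z k).arrow ≫ e.inv := fun k => Ψ.map_preimage _
  have hmono : ∀ k, Mono (m k) := fun k => by
    have : Mono (Ψ.map (m k)) := by
      rw [hm]
      infer_instance
    exact Ψ.mono_of_mono_map this
  have hle : ∀ k l, Z k ≤ Z l ↔ Subobject.mk (m k) ≤ Subobject.mk (m l) := by
    intro k l
    constructor
    · intro h
      refine Subobject.mk_le_mk_of_comm (Ψ.preimage ((i k).hom ≫ Subobject.ofLE _ _ h ≫ (i l).inv))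
        ?_
      apply Ψ.map_injective
      rw [Ψ.map_comp, Ψ.map_preimage, hm, hm]
      simp
    · intro h
      let t := Subobject.ofMkLEMk _ _ h
      have ht : t ≫ m l = m k := Subobject.ofMkLEMk_comp h
      refine Subobject.le_of_comm ((i k).inv ≫ Ψ.map t ≫ (i l).hom) ?_
      have h1 : Ψ.map t ≫ Ψ.map (m l) = Ψ.map (m k) := by rw [← Ψ.map_comp, ht]
      rw [hm, hm] at h1
      have h2 : Ψ.map t ≫ (i l).hom ≫ (Z l).arrow = (i k).hom ≫ (Z k).arrow := by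
        rw [← cancel_mono e.inv]
        simpa using h1
      simp [h2]
  let c : ℕ →o Subobject Y := ⟨fun k => Subobject.mk (m k), fun k l hkl => (hle k l).1 (Z.2 hkl)⟩
  obtain ⟨k₀, hk₀⟩ := (isNoetherianObject_iff_monotone_chain_condition Y).1 inferInstance c
  refine ⟨k₀, fun k hk => le_antisymm ((hle k k₀).2 ?_) (Z.2 hk)⟩
  exact (hk₀ k hk).ge

end K337.FFNoeth
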