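import Groth.Agent.EtModW.K337.SnakeQuot
import Groth.Agent.EtModW.K337.CompleteP
import Groth.Agent.EtModW.K337.ExtComplete
import Groth.Agent.EtModW.K337.EssW
import Groth.Agent.Sga5.AdicCrit
import Groth.Agent.S14013
import Groth.Agent.S14014

/-!
# Extensions of `(a)`-adic pro-étale sheaves
-/

set_option autoImplicit false
universe u v w v₁ v₂ u₁ u₂

open CategoryTheory CategoryTheory.Limits AlgebraicGeometry Opposite
open Groth.Agent.Sga5.IsQuotBasic ARSys K337.WCMod K337.QuotWC K337.AdicP K337.ProMod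

namespace K337.ExtP

variable {Λ : Type (u + 1)} [CommRing Λ] [IsNoetherianRing Λ] {a : Λ} {X : Scheme.{u}}
  [IsNoetherian X] [ProEtS.EpsCont X]

variable (Λ X) in
/-- Constructible pro-étale sheaves. -/
def consP : ObjectProperty (EtModW.ModP Λ X) := fun F =>
  ∃ E : EtModW.Mod Λ X, EtModW.IsConstructible Λ E ∧ Nonempty ((EtModW.epsPullMod Λ X).obj E ≅ F)

instance : WSerre.IsWeakSerre (consP Λ X) := K337.EssW.isWeakSerre_consP Λ X

omit [IsNoetherianRing Λ] [AlgebraicGeometry.IsNoetherian X] [ProEtS.EpsCont X] in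
theorem kernel_comp_smul (k c : ℕ) (h : k ≤ c) (H : EtModW.ModP Λ X) :
    kernel.ι (a ^ k • 𝟙 H) ≫ (a ^ c • 𝟙 H) = 0 := by
  obtain ⟨d, rfl⟩ := Nat.exists_eq_add_of_le h
  have h1 : (a ^ (k + d) • 𝟙 H) = (a ^ k • 𝟙 H) ≫ (a ^ d • 𝟙 H) := by
    rw [Linear.smul_comp, Linear.comp_smul, Category.comp_id, smul_smul, pow_add]
  rw [h1, kernel.condition_assoc, zero_comp]

/-- The `a`-power torsion of an `(a)`-adic pro-étale sheaf is bounded. -/
theorem exists_torsion_bound {H : EtModW.ModP Λ X} (hH : IsAdicP Λ (Ideal.span {a}) H) :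
    ∃ c : ℕ, ∀ k : ℕ, kernel.ι (a ^ k • 𝟙 H) ≫ (a ^ c • 𝟙 H) = 0 := by
  let Z : ℕ →o Subobject H := ⟨fun k => kernelSubobject (a ^ k • 𝟙 H), by
    intro k l hkl
    refine le_kernelSubobject _ _ ?_
    rw [← kernelSubobject_arrow (a ^ k • 𝟙 H), Category.assoc, kernel_comp_smul k l hkl,
      comp_zero]⟩
  obtain ⟨c, hc⟩ := Groth.Agent.S14014.result Λ (Ideal.span {a}) X H hH Z (fun k =>
    IsAdicP.of_iso (kernelSubobjectIso (a ^ k • 𝟙 H)).symm
      (Groth.Agent.S14013.result Λ (Ideal.span {a}) X H H hH hH (a ^ k • 𝟙 H)).1)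
  refine ⟨c, fun k => ?_⟩
  rcases le_total k c with h | h
  · exact kernel_comp_smul k c h H
  · have h1 : Z k ≤ Z c := (hc k h).le
    have h2 : (Z k).arrow ≫ (a ^ c • 𝟙 H) = 0 := by
      rw [← Subobject.ofLE_arrow h1, Category.assoc]
      have : (Z c).arrow ≫ (a ^ c • 𝟙 H) = 0 := kernelSubobject_arrow_comp _
      rw [this, comp_zero]
    have h3 : (kernelSubobjectIso (a ^ k • 𝟙 H)).inv ≫ (Z k).arrow = kernel.ι (a ^ k • 𝟙 H) :=
      kernelSubobject_arrow' _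
    rw [← h3, Category.assoc, h2, comp_zero]

omit [IsNoetherianRing Λ] [AlgebraicGeometry.IsNoetherian X] [ProEtS.EpsCont X] in
theorem torsion_sections {H : EtModW.ModP Λ X} {c : ℕ}
    (hc : ∀ k : ℕ, kernel.ι (a ^ k • 𝟙 H) ≫ (a ^ c • 𝟙 H) = 0) {U : X.ProEt}
    (hU : ProEtS.IsWC U) (k : ℕ) (z : H.obj.obj (op U)) (hz : a ^ k • z = 0) : a ^ c • z = 0 := by
  obtain ⟨w, rfl⟩ := exists_of_exact hU (ShortComplex.mk (kernel.ι (a ^ k • 𝟙 H)) (a ^ k • 𝟙 H)
    (kernel.condition _)) (ShortComplex.exact_kernel _) z hz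
  exact congrArg (fun t => (t.hom.app (op U)).hom w) (hc k)

/-- The `a^k`-torsion of an `(a)`-adic pro-étale sheaf is constructible. -/
theorem consP_torsion {H : EtModW.ModP Λ X} (hH : IsAdicP Λ (Ideal.span {a}) H) (n : ℕ) :
    consP Λ X (kernel (a ^ (n + 1) • 𝟙 H)) := by
  obtain ⟨Q, p, h1, h2, -⟩ :=
    (Groth.Agent.S14013.result Λ (Ideal.span {a}) X H H hH hH (a ^ (n + 1) • 𝟙 H)).1
  have hk : KilledBy ((Ideal.span {a}) ^ (n + 1)) (kernel (a ^ (n + 1) • 𝟙 H)) := by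
    rw [Ideal.span_singleton_pow, killedBy_iff, homKilledBy_span_iff]
    rintro _ rfl
    rw [← cancel_mono (kernel.ι (a ^ (n + 1) • 𝟙 H)), zero_comp, Linear.smul_comp,
      Category.id_comp]
    have := kernel.condition (a ^ (n + 1) • 𝟙 H)
    rwa [Linear.comp_smul, Category.comp_id] at this
  have := isIso_of_isQuot_of_killedBy (h1 n) hk
  obtain ⟨E, hE, ⟨e⟩⟩ := h2 n
  exact ⟨E, hE, ⟨e ≪≫ (asIso (p.app (op n))).symm⟩⟩

/-- Extensions of `(a)`-adic pro-étale sheaves are `(a)`-adic. -/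
theorem isAdicP_extension (S : ShortComplex (EtModW.ModP Λ X)) (hS : S.ShortExact)
    (h₁ : IsAdicP Λ (Ideal.span {a}) S.X₁) (h₃ : IsAdicP Λ (Ideal.span {a}) S.X₃) :
    IsAdicP Λ (Ideal.span {a}) S.X₂ := by
  have hI : (Ideal.span {a}).FG := ⟨{a}, by simp⟩
  obtain ⟨Y, q, hq⟩ := Groth.Agent.Sga5.AdicCrit.exists_quotSys.{u + 1} (J := Ideal.span {a})
    (Or.inl hI) ((Functor.const ℕᵒᵖ).obj S.X₂)
  obtain ⟨c, hc⟩ := exists_torsion_bound h₃
  have h₃' := h₃
  obtain ⟨Q₁, p₁, a₁, b₁, c₁⟩ := h₁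
  obtain ⟨Q₃, p₃, a₃, b₃, c₃⟩ := h₃
  refine ⟨Y, q, hq, fun n => ?_, ?_⟩
  · have key := K337.SnakeQuot.prop_quot_of_shortExact (consP Λ X) (a ^ (n + 1)) S hS
      (p₁ := p₁.app (op n)) (p₂ := q.app (op n)) (p₃ := p₃.app (op n))
      (by rw [← Ideal.span_singleton_pow]; exact a₁ n)
      (by rw [← Ideal.span_singleton_pow]; exact hq n)
      (by rw [← Ideal.span_singleton_pow]; exact a₃ n) (b₁ n) (b₃ n) (consP_torsion h₃' n)
    exact key
  · rw [K337.CompleteP.isIso_lift_iff_complete hI q hq]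
    rw [K337.CompleteP.isIso_lift_iff_complete hI p₁ a₁] at c₁
    rw [K337.CompleteP.isIso_lift_iff_complete hI p₃ a₃] at c₃
    intro U hU
    have := hS.mono_f
    have := hS.epi_g
    refine K337.ExtComplete.isAdicComplete_of_exact (S.f.hom.app (op U)).hom
      (S.g.hom.app (op U)).hom ((mono_iff_wc S.f).1 inferInstance U hU)
      ((epi_iff_wc S.g).1 inferInstance U hU) ?_ c (torsion_sections hc hU) (c₁ U hU) (c₃ U hU)
    intro z
    constructor
    · exact exists_of_exact hU S hS.exact z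
    · rintro ⟨w, rfl⟩
      exact congrArg (fun t => (t.hom.app (op U)).hom w) S.zero

end K337.ExtP
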