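import Groth.Agent.Etrest.ModSpec
import Groth.Agent.Etrest.ModFT
import Groth.Agent.EtModW.K336.Stk
import Groth.Agent.Sga5.MLAR
import Groth.Agent.LoccohA.ChevalleyAdic
import Groth.Agent.EtModW.K337.AdicLim
import Groth.Agent.Sga4h.LFinPull
import Mathlib.Topology.NoetherianSpace

/-!
# Locally constant sheaves of finite type and the Mittag-Leffler condition

* `ZeroAt E x`: the geometric stalks of `E` over `x` vanish; a clopen condition if `E` is locally
  constant of finite type (`isClopen_zeroAt`);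
* `hom_eq_zero`: a morphism of finite type locally constant sheaves on a Noetherian scheme which
  vanishes on one geometric stalk in every irreducible component is zero;
* `exists_ml`: a system of finite type locally constant sheaves killed by powers of an ideal `I` with
  `Λ/I` Artinian satisfies the Mittag-Leffler condition.
-/

set_option autoImplicit false
universe u v w v₁ v₂ u₁ u₂

open CategoryTheory CategoryTheory.Limits AlgebraicGeometry Opposite
open Groth.Agent.Etrest Groth.Agent.Etrest.ModGerm Groth.Agent.Etrest.ModLoc ARSys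
open Groth.Agent.EtpbcA.Germ (Fib fmap pt exists_geomPt exists_geomPt_aux exists_lift hom_pt)

namespace K337.FTML

variable {Λ : Type (u + 1)} [CommRing Λ] {X : Scheme.{u}}

/-- The geometric stalks of `E` over `x` vanish. -/
def ZeroAt (E : EtModW.Mod Λ X) (x : X) : Prop :=
  ∀ (Ω : Type u) [Field Ω] [IsSepClosed Ω] (ξ : Spec (CommRingCat.of Ω) ⟶ X),
    ξ default = x → Subsingleton ((EtModW.stalk Λ ξ).obj E : Type (u + 1))

theorem exists_fib {Ω : Type u} [Field Ω] [IsSepClosed Ω] (ξ : Spec (CommRingCat.of Ω) ⟶ X)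
    (U : X.Etale) (u : U.left) (h : U.hom u = ξ default) : Nonempty (Fib ξ U) := by
  obtain ⟨t, -⟩ := Scheme.pointSmallEtaleFiberObjToPreimage_surjective ξ rfl U ⟨u, h⟩
  exact ⟨t⟩

theorem zeroAt_iff {E : EtModW.Mod Λ X} {U : X.Etale} {M : Type (u + 1)} [AddCommGroup M]
    [Module Λ M] {φ : M →ₗ[Λ] EtModW.sect Λ E U} (hφ : IsConstVia Λ E U φ) (u : U.left) :
    ZeroAt E (U.hom u) ↔ Subsingleton M := by
  constructor
  · intro h
    obtain ⟨Ω, _, _, ξ, hξ⟩ := exists_geomPt_aux X (U.hom u)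
    obtain ⟨t⟩ := exists_fib ξ U u hξ.symm
    have := h Ω ξ hξ
    exact (hφ Ω ξ t).1.subsingleton
  · intro h Ω _ _ ξ hξ
    obtain ⟨t⟩ := exists_fib ξ U u hξ.symm
    exact (hφ Ω ξ t).2.subsingleton

theorem isOpen_range (U : X.Etale) : IsOpen (Set.range U.hom) := by
  have : Etale U.hom := U.prop
  exact (U.hom).isOpenMap.isOpen_range

/-- The zero locus of a locally constant sheaf of finite type is clopen. -/
theorem isClopen_zeroAt {E : EtModW.Mod Λ X} (hE : EtModW.IsFTLocConst Λ E) :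
    IsClopen {x | ZeroAt E x} := by
  rw [ftlc_iff] at hE
  constructor
  · rw [← isOpen_compl_iff, isOpen_iff_forall_mem_open]
    intro x hx
    obtain ⟨U, u, M, _, _, _, φ, rfl, hφ⟩ := hE x
    refine ⟨Set.range U.hom, ?_, isOpen_range U, ⟨u, rfl⟩⟩
    rintro _ ⟨v, rfl⟩
    change ¬ ZeroAt E _
    rw [zeroAt_iff hφ]
    have : ¬ ZeroAt E _ := hx
    rwa [zeroAt_iff hφ] at this
  · rw [isOpen_iff_forall_mem_open]
    intro x hx
    obtain ⟨U, u, M, _, _, _, φ, rfl, hφ⟩ := hE x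
    refine ⟨Set.range U.hom, ?_, isOpen_range U, ⟨u, rfl⟩⟩
    rintro _ ⟨v, rfl⟩
    change ZeroAt E _
    rw [zeroAt_iff hφ]
    have : ZeroAt E _ := hx
    rwa [zeroAt_iff hφ] at this

theorem zeroAt_of_subsingleton {E : EtModW.Mod Λ X} (hE : EtModW.IsFTLocConst Λ E)
    {Ω : Type u} [Field Ω] [IsSepClosed Ω] (ξ : Spec (CommRingCat.of Ω) ⟶ X)
    (h : Subsingleton ((EtModW.stalk Λ ξ).obj E : Type (u + 1))) : ZeroAt E (ξ default) := by
  rw [ftlc_iff] at hE
  obtain ⟨U, u, M, _, _, _, φ, hu, hφ⟩ := hE (ξ default)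
  obtain ⟨t⟩ := exists_fib ξ U u hu
  rw [← hu, zeroAt_iff hφ]
  exact (hφ Ω ξ t).1.subsingleton

theorem isZero_of_zeroAt {E : EtModW.Mod Λ X} (h : ∀ x, ZeroAt E x) : IsZero E := by
  apply Groth.Agent.Sga4h.LFinPull.isZero_of_sect
  intro U s
  apply sect_ext_germ
  intro Ω _ _ ξ t
  have := h (ξ default) Ω ξ rfl
  exact Subsingleton.elim _ _

/-- A locally constant sheaf of finite type which vanishes at a point of every irreducible
component is zero. -/
theorem isZero_of_components {E : EtModW.Mod Λ X} (hE : EtModW.IsFTLocConst Λ E)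
    (h : ∀ Z ∈ irreducibleComponents X, ∃ x ∈ Z, ZeroAt E x) : IsZero E := by
  apply isZero_of_zeroAt
  intro y
  obtain ⟨x, hx, hx'⟩ := h _ (irreducibleComponent_mem_irreducibleComponents y)
  have h1 : irreducibleComponent y ⊆ {x | ZeroAt E x} :=
    isIrreducible_irreducibleComponent.isPreirreducible.isPreconnected.subset_isClopen
      (isClopen_zeroAt hE) ⟨x, hx, hx'⟩
  exact h1 mem_irreducibleComponent

theorem subsingleton_stalk_image {E G : EtModW.Mod Λ X} (φ : E ⟶ G)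
    {Ω : Type u} [Field Ω] [IsSepClosed Ω] (ξ : Spec (CommRingCat.of Ω) ⟶ X)
    (h : (EtModW.stalk Λ ξ).map φ = 0) :
    Subsingleton ((EtModW.stalk Λ ξ).obj (Abelian.image φ) : Type (u + 1)) := by
  have h1 : (EtModW.stalk Λ ξ).map (Abelian.factorThruImage φ) ≫
      (EtModW.stalk Λ ξ).map (Abelian.image.ι φ) = 0 := by
    rw [← Functor.map_comp, Abelian.image.fac, h]
  have h2 : Epi ((EtModW.stalk Λ ξ).map (Abelian.factorThruImage φ)) := inferInstance
  have h3 : Mono ((EtModW.stalk Λ ξ).map (Abelian.image.ι φ)) := inferInstance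
  have h4 : (EtModW.stalk Λ ξ).map (Abelian.factorThruImage φ) = 0 := by
    rw [← cancel_mono ((EtModW.stalk Λ ξ).map (Abelian.image.ι φ)), h1, zero_comp]
  have h5 : IsZero ((EtModW.stalk Λ ξ).obj (Abelian.image φ)) := by
    rw [IsZero.iff_id_eq_zero, ← cancel_epi ((EtModW.stalk Λ ξ).map (Abelian.factorThruImage φ)), h4]
    simp
  exact ModuleCat.subsingleton_of_isZero h5

/-- A morphism of locally constant sheaves of finite type is zero if it vanishes on a geometric
stalk in every irreducible component. -/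
theorem hom_eq_zero [IsNoetherianRing Λ] {E G : EtModW.Mod Λ X} (hE : EtModW.IsFTLocConst Λ E)
    (hG : EtModW.IsFTLocConst Λ G) (φ : E ⟶ G)
    (h : ∀ Z ∈ irreducibleComponents X, ∃ (Ω : Type u) (_ : Field Ω) (_ : IsSepClosed Ω)
      (ξ : Spec (CommRingCat.of Ω) ⟶ X), ξ default ∈ Z ∧ (EtModW.stalk Λ ξ).map φ = 0) :
    φ = 0 := by
  have him : EtModW.IsFTLocConst Λ (Abelian.image φ) :=
    ModFT.ftlc_kernel (cokernel.π φ) hG (ModFT.ftlc_cokernel φ hE hG)
  have hz : IsZero (Abelian.image φ) := by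
    refine isZero_of_components him fun Z hZ => ?_
    obtain ⟨Ω, _, _, ξ, hξ, h1⟩ := h Z hZ
    exact ⟨_, hξ, zeroAt_of_subsingleton him ξ (subsingleton_stalk_image φ ξ h1)⟩
  rw [← Abelian.image.fac φ, hz.eq_of_tgt (Abelian.factorThruImage φ) 0, zero_comp]

/-- The Mittag-Leffler condition for systems of locally constant sheaves of finite type. -/
theorem exists_ml [IsNoetherian X] [IsNoetherianRing Λ] (I : Ideal Λ) [IsArtinianRing (Λ ⧸ I)]
    (F : PS (EtModW.Mod Λ X)) (hk : TermKilled I F)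
    (hF : ∀ n : ℕ, EtModW.IsFTLocConst Λ (F.obj (op n))) (n : ℕ) :
    ∃ r : ℕ, ∀ s s' : ℕ, r ≤ s → r ≤ s' →
      shiftMap F s n ≫ cokernel.π (shiftMap F s' n) = 0 := by
  classical
  have hpt : ∀ Z : irreducibleComponents X, ∃ (Ω : Type u) (_ : Field Ω) (_ : IsSepClosed Ω)
      (ξ : Spec (CommRingCat.of Ω) ⟶ X), ξ default ∈ (Z : Set X) := by
    rintro ⟨Z, hZ⟩
    obtain ⟨x, hx⟩ := hZ.1.nonempty
    obtain ⟨Ω, _, _, ξ, hξ⟩ := exists_geomPt_aux X x
    exact ⟨Ω, inferInstance, inferInstance, ξ, by rw [hξ]; exact hx⟩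
  choose Ω i₁ i₂ ξ hξ using hpt
  have hfin : Finite (irreducibleComponents X) :=
    (TopologicalSpace.NoetherianSpace.finite_irreducibleComponents (α := X)).to_subtype
  -- stabilization on one stalk
  have hst : ∀ Z : irreducibleComponents X, ∃ r : ℕ, ∀ s : ℕ, r ≤ s →
      LinearMap.range ((EtModW.stalk Λ (ξ Z)).map (shiftMap F s n)).hom =
        LinearMap.range ((EtModW.stalk Λ (ξ Z)).map (shiftMap F r n)).hom := by
    intro Z
    have h1 : Module.Finite Λ ((EtModW.stalk Λ (ξ Z)).obj (F.obj (op n)) : Type (u + 1)) :=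
      ModSpec.finite_stalk_of_ftlc Λ (hF n) (ξ Z)
    have h2 : IsArtinian Λ ((EtModW.stalk Λ (ξ Z)).obj (F.obj (op n)) : Type (u + 1)) := by
      have h3 := Groth.Agent.LoccohA.ChevalleyAdic.isArtinian_quotient_pow_smul I
        (M := ((EtModW.stalk Λ (ξ Z)).obj (F.obj (op n)) : Type (u + 1))) (n + 1)
      have h4 : I ^ (n + 1) • (⊤ : Submodule Λ
          ((EtModW.stalk Λ (ξ Z)).obj (F.obj (op n)) : Type (u + 1))) = ⊥ := by
        rw [eq_bot_iff, Submodule.smul_le]
        intro a ha x _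
        have h5 := K337.AdicLim.killedBy_map (EtModW.stalk Λ (ξ Z)) (hk n) a ha
        have h6 := congrArg (fun f => f.hom x) h5
        exact h6
      exact isArtinian_of_linearEquiv (Submodule.quotEquivOfEqBot _ h4)
    let c : ℕ →o (Submodule Λ ((EtModW.stalk Λ (ξ Z)).obj (F.obj (op n)) : Type (u + 1)))ᵒᵈ :=
      ⟨fun s => OrderDual.toDual
        (LinearMap.range ((EtModW.stalk Λ (ξ Z)).map (shiftMap F s n)).hom), by
        intro s s' hss
        rw [OrderDual.toDual_le_toDual]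
        rintro _ ⟨a, rfl⟩
        refine ⟨((EtModW.stalk Λ (ξ Z)).map (tr F (show n + s ≤ n + s' by omega))).hom a, ?_⟩
        have h3 : tr F (show n + s ≤ n + s' by omega) ≫ shiftMap F s n = shiftMap F s' n :=
          Groth.Agent.Sga5.ARBasic.tr_comp F _ _
        have h4 : (EtModW.stalk Λ (ξ Z)).map (tr F (show n + s ≤ n + s' by omega)) ≫
            (EtModW.stalk Λ (ξ Z)).map (shiftMap F s n) =
              (EtModW.stalk Λ (ξ Z)).map (shiftMap F s' n) :=
          ((EtModW.stalk Λ (ξ Z)).map_comp _ _).symm.trans (congrArg _ h3)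
        exact congrArg (fun f => f.hom a) h4⟩
    obtain ⟨r, hr⟩ := IsArtinian.monotone_stabilizes c
    exact ⟨r, fun s hs => (hr s hs).symm⟩
  choose r hr using hst
  have := Fintype.ofFinite (irreducibleComponents X)
  refine ⟨Finset.univ.sup r, fun s s' hs hs' => ?_⟩
  refine hom_eq_zero (hF _) (ModFT.ftlc_cokernel _ (hF _) (hF _)) _ fun Z hZ => ?_
  refine ⟨Ω ⟨Z, hZ⟩, i₁ _, i₂ _, ξ ⟨Z, hZ⟩, hξ ⟨Z, hZ⟩, ?_⟩
  have e1 := hr ⟨Z, hZ⟩ s ((Finset.le_sup (f := r) (Finset.mem_univ _)).trans hs)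
  have e2 := hr ⟨Z, hZ⟩ s' ((Finset.le_sup (f := r) (Finset.mem_univ _)).trans hs')
  refine ((EtModW.stalk Λ (ξ ⟨Z, hZ⟩)).map_comp _ _).trans ?_
  apply ModuleCat.hom_ext
  apply LinearMap.ext
  intro a
  have h1 : ((EtModW.stalk Λ (ξ ⟨Z, hZ⟩)).map (shiftMap F s n)).hom a ∈
      LinearMap.range ((EtModW.stalk Λ (ξ ⟨Z, hZ⟩)).map (shiftMap F s' n)).hom := by
    rw [e2, ← e1]
    exact ⟨a, rfl⟩
  obtain ⟨b, hb⟩ := h1
  have h2 : (EtModW.stalk Λ (ξ ⟨Z, hZ⟩)).map (shiftMap F s' n) ≫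
      (EtModW.stalk Λ (ξ ⟨Z, hZ⟩)).map (cokernel.π (shiftMap F s' n)) = 0 := by
    rw [← Functor.map_comp, cokernel.condition, Functor.map_zero]
  have h3 := ConcreteCategory.congr_hom h2 b
  refine Eq.trans ?_ h3
  exact congrArg ((EtModW.stalk Λ (ξ ⟨Z, hZ⟩)).map (cokernel.π (shiftMap F s' n))).hom hb.symm

end K337.FTML
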