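import Groth.Agent.EtModW.K337.ProMod

/-!
# Compatibility of `eps⁻¹` with inverse images and extension by zero (sheaves of modules)
-/

set_option autoImplicit false
universe u v w v' w'

open CategoryTheory CategoryTheory.Limits AlgebraicGeometry Opposite

namespace K337.ProEps

open K337.SiteAb K337.SiteAb2 K337.ProMod

variable (Λ : Type (u + 1)) [CommRing Λ]

section pull

variable {X Y : Scheme.{u}} (f : X ⟶ Y) [ProEtS.EpsCont X] [ProEtS.EpsCont Y] [ProEtS.PCont f]

/-- `f_* eps_* = eps_* f_*` on sheaves of modules. -/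
noncomputable def pushEps : pushM Λ f ⋙ epsPushM Λ Y ≅ epsPushM Λ X ⋙ EtModW.push Λ f :=
  Iso.refl _

/-- `f⁻¹ eps⁻¹ ≅ eps⁻¹ f⁻¹` on sheaves of modules. -/
noncomputable def pullEps :
    EtModW.pull Λ f ⋙ EtModW.epsPullMod Λ X ≅ EtModW.epsPullMod Λ Y ⋙ pullM Λ f :=
  Adjunction.leftAdjointUniq
    (((Groth.Agent.Etrest.ModAb.pullPushAdj Λ f).comp (epsAdjM Λ X)).ofNatIsoRight
      (pushEps Λ f).symm)
    ((epsAdjM Λ Y).comp (pullPushAdjM Λ f))

end pull

section ext

variable {U X : Scheme.{u}} (j : U ⟶ X) [hje : Etale j] [WeaklyEtale j] [ProEtS.EpsCont U]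
  [ProEtS.EpsCont X] [ProEtS.JPCont j]
  [(MorphismProperty.Over.map (P := EtCoh.etaleMP.{u}) ⊤ (f := j) hje).IsContinuous
    U.smallEtaleTopology X.smallEtaleTopology]

/-- `j⁻¹ eps_* = eps_* j⁻¹`. -/
noncomputable def restrEpsPush : restrM Λ j ⋙ epsPushM Λ U ≅
    epsPushM Λ X ⋙ (MorphismProperty.Over.map (P := EtCoh.etaleMP.{u}) ⊤
      (f := j) hje).sheafPushforwardContinuous (ModuleCat.{u + 1} Λ) U.smallEtaleTopology
        X.smallEtaleTopology :=
  Iso.refl _

variable [((MorphismProperty.Over.map (P := EtCoh.etaleMP.{u}) ⊤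
    (f := j) hje).sheafPushforwardContinuous (ModuleCat.{u + 1} Λ) U.smallEtaleTopology
      X.smallEtaleTopology).IsRightAdjoint]

/-- `eps⁻¹ j_! ≅ j_! eps⁻¹` on sheaves of modules. -/
noncomputable def extZeroEps :
    (MorphismProperty.Over.map (P := EtCoh.etaleMP.{u}) ⊤ (f := j) hje).sheafPullback
      (ModuleCat.{u + 1} Λ) U.smallEtaleTopology X.smallEtaleTopology ⋙ EtModW.epsPullMod Λ X ≅
      EtModW.epsPullMod Λ U ⋙ extZeroM Λ j :=
  Adjunction.leftAdjointUniq
    ((((MorphismProperty.Over.map (P := EtCoh.etaleMP.{u}) ⊤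
      (f := j) hje).sheafAdjunctionContinuous (ModuleCat.{u + 1} Λ) U.smallEtaleTopology
        X.smallEtaleTopology).comp (epsAdjM Λ X)).ofNatIsoRight (restrEpsPush Λ j).symm)
    ((epsAdjM Λ U).comp (extZeroAdjM Λ j))

end ext

end K337.ProEps
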