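import Groth.Agent.Etrest.ModAb
import Groth.Agent.EtSix.H3.PullUnit
import Groth.Prelude.Def_EtModW

/-!
# Sheaves of modules and their underlying abelian sheaves, general sites

For a site `(C, J)` (objects in `Type (u + 1)`, morphisms in `Type u`) and a ring `Λ : Type (u + 1)`:
* `ab Λ J`, exact, faithful, conservative, left adjoint to `coindSh Λ J`;
* for a continuous functor `G`: `pullIso Λ G J K : G^* ⋙ ab ≅ ab ⋙ G^*`, compatibility with units and
  counits, and transfer of `IsIso unit`, `IsIso counit`, preservation of limits.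
-/

set_option autoImplicit false
universe u v w v₁ v₂ v₃ v₄ u₁ u₂ u₃ u₄

open CategoryTheory CategoryTheory.Limits AlgebraicGeometry Opposite

namespace K337.SiteAb

open Groth.Agent.Etrest.ModAb (fg coind coindAdj)

section Abstract

variable {A : Type u₁} [Category.{v₁} A] {A' : Type u₂} [Category.{v₂} A']
  {B : Type u₃} [Category.{v₃} B] {B' : Type u₄} [Category.{v₄} B']
  {U : A ⥤ B} {U' : A' ⥤ B'}
  {L : A ⥤ A'} {P : A' ⥤ A} (adj : L ⊣ P) {L₀ : B ⥤ B'} {P₀ : B' ⥤ B} (adj₀ : L₀ ⊣ P₀)
  (κ : P ⋙ U ≅ U' ⋙ P₀) (π : L ⋙ U' ≅ U ⋙ L₀)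

/-- The counit formula from the unit formula. -/
theorem counit_of_unit
    (hu : ∀ F : A, adj₀.unit.app (U.obj F) = U.map (adj.unit.app F) ≫ κ.hom.app (L.obj F) ≫
      P₀.map (π.hom.app F)) (M : A') :
    U'.map (adj.counit.app M) = π.hom.app (P.obj M) ≫ L₀.map (κ.hom.app M) ≫
      adj₀.counit.app (U'.obj M) := by
  have h1 : π.inv.app (P.obj M) ≫ U'.map (adj.counit.app M) =
      L₀.map (κ.hom.app M) ≫ adj₀.counit.app (U'.obj M) := by
    apply (adj₀.homEquiv _ _).injective
    rw [Adjunction.homEquiv_unit, Adjunction.homEquiv_unit]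
    have e1 := adj₀.unit.naturality (κ.hom.app M)
    have e2 : P₀.map (π.hom.app (P.obj M)) ≫ P₀.map (π.inv.app (P.obj M)) = 𝟙 _ := by
      rw [← P₀.map_comp, Iso.hom_inv_id_app]
      exact P₀.map_id _
    have e3 := κ.hom.naturality (adj.counit.app M)
    have e4 : U.map (adj.unit.app (P.obj M)) ≫ U.map (P.map (adj.counit.app M)) = 𝟙 _ := by
      rw [← U.map_comp, adj.right_triangle_components]
      exact U.map_id _
    have e5 : adj₀.unit.app (P₀.obj (U'.obj M)) ≫ P₀.map (adj₀.counit.app (U'.obj M)) = 𝟙 _ :=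
      adj₀.right_triangle_components _
    have l : adj₀.unit.app (U.obj (P.obj M)) ≫
        P₀.map (π.inv.app (P.obj M) ≫ U'.map (adj.counit.app M)) = κ.hom.app M := by
      calc _ = U.map (adj.unit.app (P.obj M)) ≫ κ.hom.app (L.obj (P.obj M)) ≫
            (P₀.map (π.hom.app (P.obj M)) ≫ P₀.map (π.inv.app (P.obj M))) ≫
              P₀.map (U'.map (adj.counit.app M)) := by
              rw [hu, P₀.map_comp]
              simp only [Category.assoc]
        _ = U.map (adj.unit.app (P.obj M)) ≫ κ.hom.app (L.obj (P.obj M)) ≫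
              P₀.map (U'.map (adj.counit.app M)) := by
              rw [e2]
              congr 2
              exact Category.id_comp _
        _ = U.map (adj.unit.app (P.obj M)) ≫ U.map (P.map (adj.counit.app M)) ≫ κ.hom.app M := by
              congr 1
              exact e3.symm
        _ = κ.hom.app M := by
              rw [← Category.assoc, e4]
              exact Category.id_comp _
    have r : adj₀.unit.app (U.obj (P.obj M)) ≫
        P₀.map (L₀.map (κ.hom.app M) ≫ adj₀.counit.app (U'.obj M)) = κ.hom.app M := by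
      calc _ = (adj₀.unit.app (U.obj (P.obj M)) ≫ P₀.map (L₀.map (κ.hom.app M))) ≫
            P₀.map (adj₀.counit.app (U'.obj M)) := by
              rw [P₀.map_comp, Category.assoc]
        _ = (κ.hom.app M ≫ adj₀.unit.app (P₀.obj (U'.obj M))) ≫
              P₀.map (adj₀.counit.app (U'.obj M)) := by
              congr 1
              exact e1.symm
        _ = κ.hom.app M := by
              rw [Category.assoc, e5]
              exact Category.comp_id _
    exact l.trans r.symm
  rw [← h1, Iso.hom_inv_id_app_assoc]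

include κ π in
/-- Transfer of isomorphy of the unit. -/
theorem isIso_unit_of
    (hu : ∀ F : A, adj₀.unit.app (U.obj F) = U.map (adj.unit.app F) ≫ κ.hom.app (L.obj F) ≫
      P₀.map (π.hom.app F)) (F : A) : IsIso (U.map (adj.unit.app F)) ↔
      IsIso (adj₀.unit.app (U.obj F)) := by
  rw [hu F]
  have : IsIso (κ.hom.app (L.obj F) ≫ P₀.map (π.hom.app F)) := inferInstance
  exact (isIso_comp_right_iff (U.map (adj.unit.app F)) _).symm

include κ π in
/-- Transfer of isomorphy of the counit. -/
theorem isIso_counit_of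
    (hu : ∀ F : A, adj₀.unit.app (U.obj F) = U.map (adj.unit.app F) ≫ κ.hom.app (L.obj F) ≫
      P₀.map (π.hom.app F)) (M : A') : IsIso (U'.map (adj.counit.app M)) ↔
      IsIso (adj₀.counit.app (U'.obj M)) := by
  rw [counit_of_unit adj adj₀ κ π hu M, ← Category.assoc]
  have : IsIso (π.hom.app (P.obj M) ≫ L₀.map (κ.hom.app M)) := inferInstance
  exact isIso_comp_left_iff (π.hom.app (P.obj M) ≫ L₀.map (κ.hom.app M)) _

end Abstract

section Sites

variable (Λ : Type (u + 1)) [CommRing Λ] {C : Type (u + 1)} [Category.{u} C]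
  (J : GrothendieckTopology C)

/-- The underlying abelian sheaf of a sheaf of modules. -/
noncomputable abbrev ab : Sheaf J (ModuleCat.{u + 1} Λ) ⥤ Sheaf J AddCommGrpCat.{u + 1} :=
  sheafCompose J (fg Λ)

instance : (ab Λ J).Faithful := inferInstance
instance : (ab Λ J).ReflectsIsomorphisms := inferInstance

instance : J.HasSheafCompose (coind Λ) := inferInstance

/-- Coinduction of sheaves. -/
noncomputable abbrev coindSh : Sheaf J AddCommGrpCat.{u + 1} ⥤ Sheaf J (ModuleCat.{u + 1} Λ) :=
  sheafCompose J (coind Λ)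

/-- The forgetful functor is left adjoint to coinduction. -/
noncomputable def coindShAdj : ab Λ J ⊣ coindSh Λ J :=
  ((coindAdj Λ).whiskerRight Cᵒᵖ).restrictFullyFaithful
    (fullyFaithfulSheafToPresheaf _ _) (fullyFaithfulSheafToPresheaf _ _)
    (Iso.refl _) (Iso.refl _)

instance : (ab Λ J).IsLeftAdjoint := ⟨_, ⟨coindShAdj Λ J⟩⟩

variable {D : Type (u + 1)} [Category.{u} D] (G : C ⥤ D) (K : GrothendieckTopology D)
  [G.IsContinuous J K]

/-- Direct image commutes with passing to the underlying abelian sheaf. -/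
noncomputable def pushIso : G.sheafPushforwardContinuous (ModuleCat.{u + 1} Λ) J K ⋙ ab Λ J ≅
    ab Λ K ⋙ G.sheafPushforwardContinuous AddCommGrpCat.{u + 1} J K :=
  NatIso.ofComponents (fun _ => Iso.refl _) (fun _ => by
    apply Sheaf.hom_ext
    rfl)

/-- Direct image commutes with coinduction. -/
noncomputable def pushCoindIso :
    coindSh Λ K ⋙ G.sheafPushforwardContinuous (ModuleCat.{u + 1} Λ) J K ≅
      G.sheafPushforwardContinuous AddCommGrpCat.{u + 1} J K ⋙ coindSh Λ J :=
  NatIso.ofComponents (fun _ => Iso.refl _) (fun _ => by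
    apply Sheaf.hom_ext
    rfl)

/-- The composite `ab (G_* M) ⟶ ab (G_* (coind (ab M))) = ab (coind (G_* (ab M))) ⟶ G_* (ab M)` is the
identification `pushIso`. -/
theorem triangle (M : Sheaf K (ModuleCat.{u + 1} Λ)) :
    (ab Λ J).map ((G.sheafPushforwardContinuous (ModuleCat.{u + 1} Λ) J K).map
        ((coindShAdj Λ K).unit.app M)) ≫
      (ab Λ J).map ((pushCoindIso Λ J G K).hom.app ((ab Λ K).obj M)) ≫
        (coindShAdj Λ J).counit.app
          ((G.sheafPushforwardContinuous AddCommGrpCat.{u + 1} J K).obj ((ab Λ K).obj M)) =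
      (pushIso Λ J G K).hom.app M := by
  apply Sheaf.hom_ext
  ext U m
  let m' : M.obj.obj (op (G.obj U.unop)) := m
  exact one_smul Λ m'

variable [(G.sheafPushforwardContinuous (ModuleCat.{u + 1} Λ) J K).IsRightAdjoint]
  [(G.sheafPushforwardContinuous AddCommGrpCat.{u + 1} J K).IsRightAdjoint]

/-- Inverse image commutes with passing to the underlying abelian sheaf. -/
noncomputable def pullIso : G.sheafPullback (ModuleCat.{u + 1} Λ) J K ⋙ ab Λ K ≅
    ab Λ J ⋙ G.sheafPullback AddCommGrpCat.{u + 1} J K :=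
  (((G.sheafAdjunctionContinuous (ModuleCat.{u + 1} Λ) J K).comp
      (coindShAdj Λ K)).ofNatIsoRight (pushCoindIso Λ J G K)).leftAdjointUniq
    ((coindShAdj Λ J).comp (G.sheafAdjunctionContinuous AddCommGrpCat.{u + 1} J K))

/-- Compatibility of `pullIso` with the units. -/
theorem unit_pullIso (F : Sheaf J (ModuleCat.{u + 1} Λ)) :
    (G.sheafAdjunctionContinuous AddCommGrpCat.{u + 1} J K).unit.app ((ab Λ J).obj F) =
      (ab Λ J).map ((G.sheafAdjunctionContinuous (ModuleCat.{u + 1} Λ) J K).unit.app F) ≫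
        (pushIso Λ J G K).hom.app ((G.sheafPullback (ModuleCat.{u + 1} Λ) J K).obj F) ≫
        (G.sheafPushforwardContinuous AddCommGrpCat.{u + 1} J K).map
          ((pullIso Λ J G K).hom.app F) :=
  Groth.Agent.EtSix.H3.PullUnit.unit_abs (coindShAdj Λ J) (coindShAdj Λ K)
    (G.sheafAdjunctionContinuous (ModuleCat.{u + 1} Λ) J K)
    (G.sheafAdjunctionContinuous AddCommGrpCat.{u + 1} J K)
    (pushIso Λ J G K) (pushCoindIso Λ J G K) (triangle Λ J G K) F

/-- Compatibility of `pullIso` with the counits. -/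
theorem counit_pullIso (M : Sheaf K (ModuleCat.{u + 1} Λ)) :
    (ab Λ K).map ((G.sheafAdjunctionContinuous (ModuleCat.{u + 1} Λ) J K).counit.app M) =
      (pullIso Λ J G K).hom.app ((G.sheafPushforwardContinuous (ModuleCat.{u + 1} Λ) J K).obj M) ≫
        (G.sheafPullback AddCommGrpCat.{u + 1} J K).map ((pushIso Λ J G K).hom.app M) ≫
          (G.sheafAdjunctionContinuous AddCommGrpCat.{u + 1} J K).counit.app ((ab Λ K).obj M) :=
  counit_of_unit (G.sheafAdjunctionContinuous (ModuleCat.{u + 1} Λ) J K)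
    (G.sheafAdjunctionContinuous AddCommGrpCat.{u + 1} J K) (pushIso Λ J G K)
    (pullIso Λ J G K) (unit_pullIso Λ J G K) M

/-- The unit at `F` is an isomorphism iff it is so for the underlying abelian sheaf. -/
theorem isIso_unit_iff (F : Sheaf J (ModuleCat.{u + 1} Λ)) :
    IsIso ((G.sheafAdjunctionContinuous (ModuleCat.{u + 1} Λ) J K).unit.app F) ↔
      IsIso ((G.sheafAdjunctionContinuous AddCommGrpCat.{u + 1} J K).unit.app
        ((ab Λ J).obj F)) := by
  rw [← isIso_unit_of (G.sheafAdjunctionContinuous (ModuleCat.{u + 1} Λ) J K)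
    (G.sheafAdjunctionContinuous AddCommGrpCat.{u + 1} J K) (pushIso Λ J G K)
    (pullIso Λ J G K) (unit_pullIso Λ J G K) F]
  exact ⟨fun _ => inferInstance, fun _ => isIso_of_reflects_iso _ (ab Λ J)⟩

/-- The counit at `M` is an isomorphism iff it is so for the underlying abelian sheaf. -/
theorem isIso_counit_iff (M : Sheaf K (ModuleCat.{u + 1} Λ)) :
    IsIso ((G.sheafAdjunctionContinuous (ModuleCat.{u + 1} Λ) J K).counit.app M) ↔
      IsIso ((G.sheafAdjunctionContinuous AddCommGrpCat.{u + 1} J K).counit.app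
        ((ab Λ K).obj M)) := by
  rw [← isIso_counit_of (G.sheafAdjunctionContinuous (ModuleCat.{u + 1} Λ) J K)
    (G.sheafAdjunctionContinuous AddCommGrpCat.{u + 1} J K) (pushIso Λ J G K)
    (pullIso Λ J G K) (unit_pullIso Λ J G K) M]
  exact ⟨fun _ => inferInstance, fun _ => isIso_of_reflects_iso _ (ab Λ K)⟩

end Sites

end K337.SiteAb
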