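import Groth.Agent.EtModW.K337.SiteAb
import Mathlib.Algebra.Homology.ShortComplex.ExactFunctor
import Mathlib.Algebra.Homology.ShortComplex.PreservesHomology

/-!
# Exactness properties of sheaves of modules from those of the underlying abelian sheaves

* `ab Λ J` preserves limits and colimits, reflects isomorphisms, limits, exactness, zero objects.
* transfer of preservation of limits by inverse and direct images.
-/

set_option autoImplicit false
universe u v w v' w'

open CategoryTheory CategoryTheory.Limits AlgebraicGeometry Opposite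

namespace K337.SiteAb2

open Groth.Agent.Etrest.ModAb (fg coind coindAdj)
open K337.SiteAb

variable (Λ : Type (u + 1)) [CommRing Λ] {C : Type (u + 1)} [Category.{u} C]
  (J : GrothendieckTopology C)

instance : (ab Λ J).Additive where
  map_add {F G f g} := by
    apply Sheaf.hom_ext
    rfl

theorem preservesLimitsOfShape_ab (I : Type w) [Category.{w'} I]
    [HasLimitsOfShape I (ModuleCat.{u + 1} Λ)] [HasLimitsOfShape I AddCommGrpCat.{u + 1}]
    [PreservesLimitsOfShape I (fg Λ)] : PreservesLimitsOfShape I (ab Λ J) := by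
  have h : PreservesLimitsOfShape I (ab Λ J ⋙ sheafToPresheaf J AddCommGrpCat.{u + 1}) :=
    inferInstanceAs (PreservesLimitsOfShape I
      (sheafToPresheaf J (ModuleCat.{u + 1} Λ) ⋙ (Functor.whiskeringRight _ _ _).obj (fg Λ)))
  exact preservesLimitsOfShape_of_reflects_of_preserves _ (sheafToPresheaf J AddCommGrpCat.{u + 1})

instance : PreservesFiniteLimits (ab Λ J) := by
  have : PreservesFiniteLimits (fg Λ) := inferInstance
  exact ⟨fun I _ _ => preservesLimitsOfShape_ab Λ J I⟩

instance : PreservesColimitsOfSize.{v', w'} (ab Λ J) :=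
  (coindShAdj Λ J).leftAdjoint_preservesColimits

instance : PreservesFiniteColimits (ab Λ J) := inferInstance

variable {Λ J} in
theorem isZero_iff {F : Sheaf J (ModuleCat.{u + 1} Λ)} : IsZero F ↔ IsZero ((ab Λ J).obj F) := by
  rw [IsZero.iff_id_eq_zero, IsZero.iff_id_eq_zero]
  constructor
  · intro h
    rw [← CategoryTheory.Functor.map_id, h, Functor.map_zero]
  · intro h
    apply (ab Λ J).map_injective
    rw [CategoryTheory.Functor.map_id, Functor.map_zero]
    exact h

variable {Λ J} in
theorem exact_iff (S : ShortComplex (Sheaf J (ModuleCat.{u + 1} Λ))) :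
    S.Exact ↔ (S.map (ab Λ J)).Exact :=
  (ShortComplex.exact_map_iff_of_faithful S (ab Λ J)).symm

variable {Λ J} in
theorem mono_iff {F G : Sheaf J (ModuleCat.{u + 1} Λ)} (f : F ⟶ G) :
    Mono f ↔ Mono ((ab Λ J).map f) :=
  ⟨fun _ => inferInstance, fun h => (ab Λ J).mono_of_mono_map h⟩

variable {Λ J} in
theorem epi_iff {F G : Sheaf J (ModuleCat.{u + 1} Λ)} (f : F ⟶ G) :
    Epi f ↔ Epi ((ab Λ J).map f) :=
  ⟨fun _ => inferInstance, fun h => (ab Λ J).epi_of_epi_map h⟩

variable {Λ J} in
theorem isIso_iff {F G : Sheaf J (ModuleCat.{u + 1} Λ)} (f : F ⟶ G) :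
    IsIso f ↔ IsIso ((ab Λ J).map f) :=
  ⟨fun _ => inferInstance, fun _ => isIso_of_reflects_iso f (ab Λ J)⟩

variable {Λ J} in
theorem shortExact_iff (S : ShortComplex (Sheaf J (ModuleCat.{u + 1} Λ))) :
    S.ShortExact ↔ (S.map (ab Λ J)).ShortExact := by
  constructor
  · intro h
    exact h.map_of_exact (ab Λ J)
  · intro h
    have h1 : Mono S.f := (mono_iff S.f).2 h.mono_f
    have h2 : Epi S.g := (epi_iff S.g).2 h.epi_g
    exact { exact := (exact_iff S).2 h.exact }

variable {D : Type (u + 1)} [Category.{u} D] (G : C ⥤ D) (K : GrothendieckTopology D)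
  [G.IsContinuous J K]

theorem reflectsLimitsOfShape_ab (I : Type w) [Category.{w'} I]
    [HasLimitsOfShape I (ModuleCat.{u + 1} Λ)] [HasLimitsOfShape I AddCommGrpCat.{u + 1}]
    [PreservesLimitsOfShape I (fg Λ)] : ReflectsLimitsOfShape I (ab Λ J) := by
  have := preservesLimitsOfShape_ab Λ J I
  exact reflectsLimitsOfShape_of_reflectsIsomorphisms

section pull

variable [(G.sheafPushforwardContinuous (ModuleCat.{u + 1} Λ) J K).IsRightAdjoint]
  [(G.sheafPushforwardContinuous AddCommGrpCat.{u + 1} J K).IsRightAdjoint]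

theorem preservesLimitsOfShape_pull (I : Type w) [Category.{w'} I]
    [HasLimitsOfShape I (ModuleCat.{u + 1} Λ)] [HasLimitsOfShape I AddCommGrpCat.{u + 1}]
    [PreservesLimitsOfShape I (fg Λ)]
    [PreservesLimitsOfShape I (G.sheafPullback AddCommGrpCat.{u + 1} J K)] :
    PreservesLimitsOfShape I (G.sheafPullback (ModuleCat.{u + 1} Λ) J K) := by
  have h1 := preservesLimitsOfShape_ab Λ J I
  have h2 := reflectsLimitsOfShape_ab Λ K I
  have h3 : PreservesLimitsOfShape I (G.sheafPullback (ModuleCat.{u + 1} Λ) J K ⋙ ab Λ K) :=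
    preservesLimitsOfShape_of_natIso (pullIso Λ J G K).symm
  exact preservesLimitsOfShape_of_reflects_of_preserves _ (ab Λ K)

theorem preservesFiniteLimits_pull
    [PreservesFiniteLimits (G.sheafPullback AddCommGrpCat.{u + 1} J K)] :
    PreservesFiniteLimits (G.sheafPullback (ModuleCat.{u + 1} Λ) J K) :=
  ⟨fun I _ _ => preservesLimitsOfShape_pull Λ J G K I⟩

end pull

section push

/-- Direct image preserves finite colimits if it does so for abelian sheaves. -/
theorem preservesFiniteColimits_push
    [PreservesFiniteColimits (G.sheafPushforwardContinuous AddCommGrpCat.{u + 1} J K)] :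
    PreservesFiniteColimits (G.sheafPushforwardContinuous (ModuleCat.{u + 1} Λ) J K) := by
  refine ⟨fun I _ _ => ?_⟩
  have h1 : PreservesColimitsOfShape I (ab Λ K ⋙
    G.sheafPushforwardContinuous AddCommGrpCat.{u + 1} J K) := inferInstance
  have h3 : PreservesColimitsOfShape I
      (G.sheafPushforwardContinuous (ModuleCat.{u + 1} Λ) J K ⋙ ab Λ J) :=
    preservesColimitsOfShape_of_natIso (pushIso Λ J G K).symm
  have h2 : ReflectsColimitsOfShape I (ab Λ J) := reflectsColimitsOfShape_of_reflectsIsomorphisms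
  exact preservesColimitsOfShape_of_reflects_of_preserves _ (ab Λ J)

end push

end K337.SiteAb2
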