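import Groth.Agent.Sga5.IsQuotBasic
import Groth.Prelude.Def_WeakSerre
import Mathlib.Algebra.Homology.ShortComplex.SnakeLemma

/-!
# Quotients modulo a principal ideal in short exact sequences

`prop_quot_of_shortExact`: for a weak Serre property `P` and a short exact sequence
`0 → X₁ → X₂ → X₃ → 0`, if `X₁/b`, `X₃/b` and `X₃[b]` have `P` then so has `X₂/b`.
-/

set_option autoImplicit false
universe v u w

open CategoryTheory CategoryTheory.Limits
open Groth.Agent.Sga5.IsQuotBasic ARSys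

namespace K337.SnakeQuot

variable {C : Type u} [Category.{v} C] [Abelian C]

/-- Weak Serre properties and four term exact sequences. -/
theorem prop_of_exact (P : ObjectProperty C) [WSerre.IsWeakSerre P] {X Y Z W : C} (f : X ⟶ Y)
    (g : Y ⟶ Z) (h : Z ⟶ W) (w₁ : f ≫ g = 0) (w₂ : g ≫ h = 0)
    (h₁ : (ShortComplex.mk f g w₁).Exact) (h₂ : (ShortComplex.mk g h w₂).Exact) [Epi h]
    (hX : P X) (hY : P Y) (hW : P W) : P Z := by
  let k : cokernel f ⟶ Z := cokernel.desc f g w₁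
  have hk : Mono k := by
    have := h₁.mono_cokernelDesc
    exact this
  have w : k ≫ h = 0 := by
    rw [← cancel_epi (cokernel.π f), cokernel.π_desc_assoc, w₂, comp_zero]
  have hex : (ShortComplex.mk k h w).Exact := by
    rw [ShortComplex.exact_iff_exact_up_to_refinements] at h₂ ⊢
    intro A x hx
    obtain ⟨A', π, hπ, y, hy⟩ := h₂ x hx
    refine ⟨A', π, hπ, y ≫ cokernel.π f, ?_⟩
    rw [hy]
    simp [k]
  have hS : (ShortComplex.mk k h w).ShortExact := { exact := hex, mono_f := hk, epi_g := inferInstance }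
  exact P.prop_X₂_of_shortExact hS (P.prop_cokernel f hX hY) hW

/-- The snake diagram of an endomorphism of a short exact sequence. -/
noncomputable def snake (S : ShortComplex C) (hS : S.ShortExact) (φ : S ⟶ S) :
    ShortComplex.SnakeInput C where
  L₀ := kernel φ
  L₁ := S
  L₂ := S
  L₃ := cokernel φ
  v₀₁ := kernel.ι φ
  v₁₂ := φ
  v₂₃ := cokernel.π φ
  w₀₂ := kernel.condition φ
  w₁₃ := cokernel.condition φ
  h₀ := kernelIsKernel φ
  h₃ := cokernelIsCokernel φ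
  L₁_exact := hS.exact
  epi_L₁_g := hS.epi_g
  L₂_exact := hS.exact
  mono_L₂_f := hS.mono_f

variable {A : Type w} [CommRing A] [Linear A C]

/-- A cokernel of multiplication by `b` is a quotient map modulo `(b)`. -/
theorem isQuot_of_isColimit (b : A) {X Q : C} {p : X ⟶ Q} {f : X ⟶ X} (hf : f = b • 𝟙 X)
    (w : f ≫ p = 0) (h : IsColimit (CokernelCofork.ofπ p w)) : IsQuot (Ideal.span {b}) p := by
  subst hf
  have hepi : Epi p := ⟨fun g g' hg => Cofork.IsColimit.hom_ext h hg⟩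
  have hb : b • p = 0 := by simpa using w
  refine isQuot_of_epi _ ?_ fun Y φ hφ => ?_
  · have h1 : HomKilledBy (Ideal.span {b}) p := by
      rw [homKilledBy_span_iff]
      rintro a rfl
      exact hb
    have h2 : HomKilledBy (Ideal.span {b}) (p ≫ 𝟙 Q) := by rwa [Category.comp_id]
    exact homKilledBy_of_epi p h2
  · have h1 : (b • 𝟙 X) ≫ φ = 0 := by
      rw [Linear.smul_comp, Category.id_comp]
      exact hφ b (Ideal.mem_span_singleton_self b)
    obtain ⟨l, hl⟩ := CokernelCofork.IsColimit.desc' h φ h1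
    exact ⟨l, hl⟩

theorem prop_quot_of_shortExact (P : ObjectProperty C) [WSerre.IsWeakSerre P] (b : A)
    (S : ShortComplex C) (hS : S.ShortExact) {Q₁ Q₂ Q₃ : C} {p₁ : S.X₁ ⟶ Q₁} {p₂ : S.X₂ ⟶ Q₂}
    {p₃ : S.X₃ ⟶ Q₃} (hp₁ : IsQuot (Ideal.span {b}) p₁) (hp₂ : IsQuot (Ideal.span {b}) p₂)
    (hp₃ : IsQuot (Ideal.span {b}) p₃) (h₁ : P Q₁) (h₃ : P Q₃) (hk : P (kernel (b • 𝟙 S.X₃))) :
    P Q₂ := by
  let φ : S ⟶ S :=
    { τ₁ := b • 𝟙 S.X₁
      τ₂ := b • 𝟙 S.X₂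
      τ₃ := b • 𝟙 S.X₃ }
  let D := snake S hS φ
  have e₁ := isQuot_of_isColimit b (show D.v₁₂.τ₁ = b • 𝟙 S.X₁ from rfl) D.w₁₃_τ₁ D.h₃τ₁
  have e₂ := isQuot_of_isColimit b (show D.v₁₂.τ₂ = b • 𝟙 S.X₂ from rfl) D.w₁₃_τ₂ D.h₃τ₂
  have e₃ := isQuot_of_isColimit b (show D.v₁₂.τ₃ = b • 𝟙 S.X₃ from rfl) D.w₁₃_τ₃ D.h₃τ₃
  have e₀ : kernel (b • 𝟙 S.X₃) ≅ D.L₀.X₃ :=
    (kernelIsKernel (b • 𝟙 S.X₃)).conePointUniqueUpToIso D.h₀τ₃
  have h : P D.L₃.X₂ := by
    have : Epi D.L₁.g := hS.epi_g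
    have hepi : Epi D.L₃.g := by
      have : Epi (D.v₂₃.τ₂ ≫ D.L₃.g) := by
        rw [D.v₂₃.comm₂₃]
        have : Epi D.L₂.g := hS.epi_g
        have : Epi D.v₂₃.τ₃ := isQuot_epi e₃
        infer_instance
      exact epi_of_epi D.v₂₃.τ₂ _
    exact prop_of_exact P D.δ D.L₃.f D.L₃.g D.δ_L₃_f D.L₃.zero D.L₂'_exact D.L₃_exact
      (P.prop_of_iso e₀ hk) (P.prop_of_iso (iso hp₁ e₁) h₁) (P.prop_of_iso (iso hp₃ e₃) h₃)
  exact P.prop_of_iso (iso e₂ hp₂) h

end K337.SnakeQuot
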