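import Groth.Agent.EtModW.K337.AdicP2
import Groth.Agent.Etrest.ModCons

/-!
# Restriction of the tower of an `I`-adic pro-étale sheaf
-/

set_option autoImplicit false
universe u v w v₁ v₂ u₁ u₂

open CategoryTheory CategoryTheory.Limits AlgebraicGeometry Opposite
open K337.ProMod K337.ProEps ARSys

namespace K337.StrataP

variable {Λ : Type (u + 1)} [CommRing Λ] {X T : Scheme.{u}} [ProEtS.EpsCont X] [ProEtS.EpsCont T]
  (g : T ⟶ X) [ProEtS.PCont g]

/-- If `Q ≅ eps⁻¹ G` with `g⁻¹ G` locally constant of finite type then `g⁻¹ Q` is `eps⁻¹` of a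
locally constant sheaf of finite type. -/
theorem exists_ftlc {G : EtModW.Mod Λ X} {Q : EtModW.ModP Λ X}
    (e : (EtModW.epsPullMod Λ X).obj G ≅ Q)
    (h : EtModW.IsFTLocConst Λ ((EtModW.pull Λ g).obj G)) :
    ∃ E : EtModW.Mod Λ T, EtModW.IsFTLocConst Λ E ∧
      Nonempty ((EtModW.epsPullMod Λ T).obj E ≅ (pullM Λ g).obj Q) :=
  ⟨_, h, ⟨(pullEps Λ g).app G ≪≫ (pullM Λ g).mapIso e⟩⟩

end K337.StrataP
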