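import Groth.Agent.Proet.DCSect
import Mathlib.Algebra.Homology.ShortComplex.ExactFunctor
import Mathlib.Algebra.Homology.ShortComplex.ModuleCat
import Mathlib.CategoryTheory.Linear.FunctorCategory
import Groth.Prelude.Def_ARSys

/-!
# Sections of sheaves of modules over weakly contractible objects

* `secU Λ U`: sections over `U`, exact for `U` weakly contractible (`exact_secU`);
* `exact_of_secU`, `hom_eq_zero`, `mono_of_wc`, `epi_of_wc`, `isIso_of_wc`: criteria;
* `existsUnique_lim`: sections of a limit over `ℕᵒᵖ`.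
-/

set_option autoImplicit false
universe u v w v' w'

open CategoryTheory CategoryTheory.Limits AlgebraicGeometry Opposite

namespace K337.WCMod

open Groth.Agent.Proet

variable (Λ : Type (u + 1)) [CommRing Λ] {X : Scheme.{u}}

/-- Sections over `U`. -/
noncomputable abbrev secU (U : X.ProEt) : EtModW.ModP Λ X ⥤ ModuleCat.{u + 1} Λ :=
  sheafToPresheaf _ _ ⋙ (evaluation _ _).obj (op U)

instance (U : X.ProEt) : (secU Λ U).Additive where

instance (U : X.ProEt) : (secU Λ U).Linear Λ where

instance (U : X.ProEt) : PreservesFiniteLimits (secU Λ U) := inferInstance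

instance (U : X.ProEt) : PreservesLimitsOfShape ℕᵒᵖ (secU Λ U) := inferInstance

variable {Λ}

theorem secU_map (U : X.ProEt) {F G : EtModW.ModP Λ X} (φ : F ⟶ G) :
    (secU Λ U).map φ = φ.hom.app (op U) := rfl

/-- Sections over a weakly contractible object form an exact functor. -/
theorem exact_secU {U : X.ProEt} (hU : ProEtS.IsWC U) (S : ShortComplex (EtModW.ModP Λ X))
    (hS : S.Exact) : (S.map (secU Λ U)).Exact := by
  have key : (∀ T : ShortComplex (EtModW.ModP Λ X), T.ShortExact → (T.map (secU Λ U)).ShortExact) →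
      ∀ T : ShortComplex (EtModW.ModP Λ X), T.Exact → (T.map (secU Λ U)).Exact :=
    ((Functor.exact_tfae (secU Λ U)).out 0 1).1
  refine key (fun T hT => ?_) S hS
  have := hT.mono_f
  have := hT.epi_g
  have h1 : (T.map (secU Λ U)).Exact ∧ Mono ((secU Λ U).map T.f) :=
    (Functor.preservesFiniteLimits_iff_forall_exact_map_and_mono (secU Λ U)).1 inferInstance T hT
  have h2 : Epi ((secU Λ U).map T.g) :=
    (ModuleCat.epi_iff_surjective _).2 (DCSect.surjective_of_epi hU T.g)
  have := h1.2
  exact { exact := h1.1, mono_f := h1.2, epi_g := h2 }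

/-- Elementwise form of exactness. -/
theorem exists_of_exact {U : X.ProEt} (hU : ProEtS.IsWC U) (S : ShortComplex (EtModW.ModP Λ X))
    (hS : S.Exact) (z : S.X₂.obj.obj (op U)) (hz : S.g.hom.app (op U) z = 0) :
    ∃ w : S.X₁.obj.obj (op U), S.f.hom.app (op U) w = z :=
  (ShortComplex.moduleCat_exact_iff _).1 (exact_secU hU S hS) z hz

/-- A morphism vanishing on sections over weakly contractible objects is zero. -/
theorem hom_eq_zero {F G : EtModW.ModP Λ X} (φ : F ⟶ G)
    (h : ∀ U : X.ProEt, ProEtS.IsWC U → ∀ z : F.obj.obj (op U), φ.hom.app (op U) z = 0) :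
    φ = 0 := by
  apply Sheaf.hom_ext
  apply NatTrans.ext
  funext U
  ext z
  obtain ⟨V, g, hg, hV⟩ := Groth.Agent.S0713.result U.unop
  apply DCSect.injective_restrict G g hg
  have e1 : ∀ t, φ.hom.app (op V) (F.obj.map g.op t) = G.obj.map g.op (φ.hom.app U t) :=
    fun t => ConcreteCategory.congr_hom (φ.hom.naturality g.op) t
  refine (e1 z).symm.trans ((h V hV _).trans ?_)
  exact (map_zero (G.obj.map g.op).hom).symm

theorem hom_ext {F G : EtModW.ModP Λ X} (φ ψ : F ⟶ G)
    (h : ∀ U : X.ProEt, ProEtS.IsWC U → ∀ z : F.obj.obj (op U),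
      φ.hom.app (op U) z = ψ.hom.app (op U) z) : φ = ψ := by
  rw [← sub_eq_zero]
  refine hom_eq_zero _ fun U hU z => ?_
  have : (φ - ψ).hom.app (op U) z = φ.hom.app (op U) z - ψ.hom.app (op U) z := rfl
  rw [this, h U hU z, sub_self]

/-- Exactness from sections over weakly contractible objects. -/
theorem exact_of_secU (S : ShortComplex (EtModW.ModP Λ X))
    (h : ∀ U : X.ProEt, ProEtS.IsWC U → ∀ z : S.X₂.obj.obj (op U),
      S.g.hom.app (op U) z = 0 → ∃ w : S.X₁.obj.obj (op U), S.f.hom.app (op U) w = z) :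
    S.Exact := by
  rw [ShortComplex.exact_iff_kernel_ι_comp_cokernel_π_zero]
  refine hom_eq_zero _ fun U hU z => ?_
  have h1 : S.g.hom.app (op U) ((kernel.ι S.g).hom.app (op U) z) = 0 := by
    have := congrArg (fun t => (t.hom.app (op U)).hom z) (kernel.condition S.g)
    exact this
  obtain ⟨w, hw⟩ := h U hU _ h1
  have h2 : (kernel.ι S.g ≫ cokernel.π S.f).hom.app (op U) z =
      (cokernel.π S.f).hom.app (op U) ((kernel.ι S.g).hom.app (op U) z) := rfl
  rw [h2, ← hw]
  have := congrArg (fun t => (t.hom.app (op U)).hom w) (cokernel.condition S.f)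
  exact this

theorem mono_iff_wc {F G : EtModW.ModP Λ X} (φ : F ⟶ G) :
    Mono φ ↔ ∀ U : X.ProEt, ProEtS.IsWC U → Function.Injective (φ.hom.app (op U)) := by
  constructor
  · intro _ U _
    have : Mono ((secU Λ U).map φ) := inferInstance
    exact (ModuleCat.mono_iff_injective _).1 this
  · intro h
    refine Preadditive.mono_of_cancel_zero φ fun {K} g hg => hom_eq_zero _ fun U hU z => ?_
    apply h U hU
    rw [map_zero]
    exact congrArg (fun t => (t.hom.app (op U)).hom z) hg

theorem epi_iff_wc {F G : EtModW.ModP Λ X} (φ : F ⟶ G) :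
    Epi φ ↔ ∀ U : X.ProEt, ProEtS.IsWC U → Function.Surjective (φ.hom.app (op U)) :=
  ⟨fun _ _ hU => DCSect.surjective_of_epi hU φ, DCSect.epi_of_surjective φ⟩

theorem isIso_iff_wc {F G : EtModW.ModP Λ X} (φ : F ⟶ G) :
    IsIso φ ↔ ∀ U : X.ProEt, ProEtS.IsWC U → Function.Bijective (φ.hom.app (op U)) :=
  DCSect.isIso_iff φ

/-- Sections of a limit over `ℕᵒᵖ`. -/
theorem existsUnique_lim {D : ℕᵒᵖ ⥤ EtModW.ModP Λ X} {c : Cone D} (hc : IsLimit c)
    (U : X.ProEt) (x : ∀ n : ℕ, (D.obj (op n)).obj.obj (op U))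
    (hx : ∀ (n m : ℕ) (h : n ≤ m), (ARSys.tr D h).hom.app (op U) (x m) = x n) :
    ∃! z : c.pt.obj.obj (op U), ∀ n : ℕ, (c.π.app (op n)).hom.app (op U) z = x n := by
  let E : EtModW.ModP Λ X ⥤ Type (u + 1) := secU Λ U ⋙ forget _
  have hE : PreservesLimit D E := inferInstance
  have h2 := isLimitOfPreserves E hc
  let e := Types.isLimitEquivSections h2
  let s : (D ⋙ E).sections := ⟨fun j => x j.unop, by
    rintro ⟨i⟩ ⟨j⟩ f
    exact hx j i (leOfHom f.unop)⟩
  refine ⟨e.symm s, fun n => ?_, fun z hz => ?_⟩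
  · exact Types.isLimitEquivSections_symm_apply h2 s (op n)
  · apply e.injective
    rw [Equiv.apply_symm_apply]
    apply Subtype.ext
    funext ⟨n⟩
    exact hz n

/-- Two sections of a limit over `ℕᵒᵖ` with the same components are equal. -/
theorem lim_ext {D : ℕᵒᵖ ⥤ EtModW.ModP Λ X} {c : Cone D} (hc : IsLimit c)
    (U : X.ProEt) {z z' : c.pt.obj.obj (op U)}
    (h : ∀ n : ℕ, (c.π.app (op n)).hom.app (op U) z = (c.π.app (op n)).hom.app (op U) z') :
    z = z' := by
  obtain ⟨y, -, hy⟩ := existsUnique_lim hc U (fun n => (c.π.app (op n)).hom.app (op U) z)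
    (fun n m h => congrArg (fun t => (t.hom.app (op U)).hom z) (c.w (homOfLE h).op))
  rw [hy z fun _ => rfl, hy z' fun n => (h n).symm]

end K337.WCMod
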